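import Groth.Prelude.Def_CAlg2
import Groth.Agent.Desc.NormalSmooth
import Mathlib.RingTheory.Unramified.LocalStructure

/-!
# Local rings of étale algebras over geometrically unibranch domains are domains
-/

set_option autoImplicit false

open TensorProduct IsLocalRing

namespace Groth.Agent.Ega4dA.GeomUni

/-- In `R' ⊗[R] C` every element has a `p^n`-th power in the image of `C` modulo `m'`, if all elements of `R'` have
such powers in `R` modulo `m'`. -/
theorem exists_pow_sub_mem {R R' C : Type*} [CommRing R] [CommRing R'] [Algebra R R'] [CommRing C] [Algebra R C]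
    (m' : Ideal R') [m'.IsMaximal] (p : ℕ) [ExpChar (R' ⧸ m') p]
    (h : ∀ x : R', ∃ n : ℕ, ∃ a : R, x ^ p ^ n - algebraMap R R' a ∈ m') (x : R' ⊗[R] C) :
    ∃ n : ℕ, ∃ c : C, x ^ p ^ n - 1 ⊗ₜ c ∈ m'.map (algebraMap R' (R' ⊗[R] C)) := by
  set J := m'.map (algebraMap R' (R' ⊗[R] C)) with hJ
  by_cases htriv : J = ⊤
  · exact ⟨0, 0, by rw [htriv]; trivial⟩
  have hnt : Nontrivial ((R' ⊗[R] C) ⧸ J) := Ideal.Quotient.nontrivial_iff.mpr htriv
  have hexp : ExpChar ((R' ⊗[R] C) ⧸ J) p := by
    let _ : Field (R' ⧸ m') := Ideal.Quotient.field m'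
    let g : R' ⧸ m' →+* (R' ⊗[R] C) ⧸ J := Ideal.quotientMap J (algebraMap R' (R' ⊗[R] C)) Ideal.le_comap_map
    exact expChar_of_injective_ringHom g.injective p
  induction x using TensorProduct.induction_on with
  | zero => exact ⟨0, 0, by simp⟩
  | tmul r c =>
    obtain ⟨n, a, ha⟩ := h r
    refine ⟨n, a • c ^ p ^ n, ?_⟩
    rw [Algebra.TensorProduct.tmul_pow]
    have : (1 : R') ⊗ₜ[R] (a • c ^ p ^ n) = (algebraMap R R' a) ⊗ₜ[R] (c ^ p ^ n) := by
      rw [TensorProduct.tmul_smul, TensorProduct.smul_tmul', Algebra.algebraMap_eq_smul_one]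
    rw [this, ← TensorProduct.sub_tmul]
    have h2 : ((r ^ p ^ n - algebraMap R R' a) ⊗ₜ[R] (c ^ p ^ n) : R' ⊗[R] C) =
        algebraMap R' (R' ⊗[R] C) (r ^ p ^ n - algebraMap R R' a) * (1 ⊗ₜ (c ^ p ^ n)) := by
      simp [Algebra.TensorProduct.algebraMap_apply]
    rw [h2]
    exact Ideal.mul_mem_right _ _ (Ideal.mem_map_of_mem _ ha)
  | add x y hx hy =>
    obtain ⟨n, c, hc⟩ := hx
    obtain ⟨k, d, hd⟩ := hy
    refine ⟨n + k, c ^ p ^ k + d ^ p ^ n, ?_⟩
    rw [← Ideal.Quotient.eq_zero_iff_mem] at hc hd ⊢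
    rw [map_sub, sub_eq_zero] at hc hd ⊢
    rw [map_pow, map_add, add_pow_expChar_pow, pow_add, pow_mul, ← map_pow, hc, mul_comm (p ^ n) (p ^ k),
      pow_mul, ← map_pow _ y, hd, TensorProduct.tmul_add, map_add, ← map_pow, ← map_pow,
      Algebra.TensorProduct.tmul_pow, Algebra.TensorProduct.tmul_pow, one_pow, one_pow]

/-- If `R'` is local, integral over the local ring `R`, with residue field purely inseparable over that of `R`,
then `R' ⊗[R] C` is local for every local `R`-algebra `C` (local homomorphism). -/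
theorem isLocalRing_tensor {R R' C : Type*} [CommRing R] [CommRing R'] [Algebra R R'] [CommRing C] [Algebra R C]
    [IsLocalRing R] [IsLocalRing R'] [IsLocalRing C] [IsLocalHom (algebraMap R C)] [Algebra.IsIntegral R R']
    [Nontrivial (R' ⊗[R] C)]
    (p : ℕ) [ExpChar (R' ⧸ maximalIdeal R') p]
    (h : ∀ x : R', ∃ n : ℕ, ∃ a : R, x ^ p ^ n - algebraMap R R' a ∈ maximalIdeal R') :
    IsLocalRing (R' ⊗[R] C) := by
  let _ : Algebra C (R' ⊗[R] C) := Algebra.TensorProduct.rightAlgebra
  have hint : Algebra.IsIntegral C (R' ⊗[R] C) := by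
    have : Algebra.IsIntegral C (C ⊗[R] R') := inferInstance
    let e : C ⊗[R] R' ≃ₐ[C] R' ⊗[R] C :=
      { (Algebra.TensorProduct.comm R C R' : C ⊗[R] R' ≃ₐ[R] R' ⊗[R] C) with
        commutes' := fun c => by simp [Algebra.TensorProduct.right_algebraMap_apply] }
    exact Algebra.IsIntegral.of_surjective e.toAlgHom e.surjective
  have hC : ∀ (M : Ideal (R' ⊗[R] C)) [M.IsMaximal], M.comap (algebraMap C (R' ⊗[R] C)) = maximalIdeal C := by
    intro M hM
    have := Ideal.isMaximal_comap_of_isIntegral_of_isMaximal (R := C) M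
    exact IsLocalRing.eq_maximalIdeal this
  have hR' : ∀ (M : Ideal (R' ⊗[R] C)) [M.IsMaximal], M.comap (algebraMap R' (R' ⊗[R] C)) = maximalIdeal R' := by
    intro M hM
    have h1 : (M.comap (algebraMap R' (R' ⊗[R] C))).comap (algebraMap R R') = maximalIdeal R := by
      rw [Ideal.comap_comap, ← IsScalarTower.algebraMap_eq]
      have : algebraMap R (R' ⊗[R] C) = (algebraMap C (R' ⊗[R] C)).comp (algebraMap R C) := by
        ext x
        simp [Algebra.algebraMap_eq_smul_one]
      rw [this, ← Ideal.comap_comap, hC M, IsLocalRing.maximalIdeal_comap]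
    have h2 : (M.comap (algebraMap R' (R' ⊗[R] C))).IsMaximal :=
      Ideal.isMaximal_of_isIntegral_of_isMaximal_comap (R := R) _ (h1 ▸ inferInstance)
    exact IsLocalRing.eq_maximalIdeal h2
  have key : ∀ (M N : Ideal (R' ⊗[R] C)) [M.IsMaximal] [N.IsMaximal], M ≤ N := by
    intro M N hM hN x hx
    obtain ⟨n, c, hc⟩ := exists_pow_sub_mem (C := C) (maximalIdeal R') p h x
    have hJM : (maximalIdeal R').map (algebraMap R' (R' ⊗[R] C)) ≤ M := by
      rw [Ideal.map_le_iff_le_comap, hR' M]
    have hJN : (maximalIdeal R').map (algebraMap R' (R' ⊗[R] C)) ≤ N := by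
      rw [Ideal.map_le_iff_le_comap, hR' N]
    have hp : 0 < p ^ n := pow_pos (expChar_pos (R' ⧸ maximalIdeal R') p) n
    have h1 : (1 : R') ⊗ₜ[R] c ∈ M := by
      have := M.sub_mem (Ideal.pow_mem_of_mem M hx _ hp) (hJM hc)
      simpa using this
    have h2 : c ∈ maximalIdeal C := by rw [← hC M]; exact h1
    have h3 : (1 : R') ⊗ₜ[R] c ∈ N := by rw [← hC N] at h2; exact h2
    have h4 : x ^ p ^ n ∈ N := by
      have := N.add_mem (hJN hc) h3
      simpa using this
    exact hN.isPrime.mem_of_pow_mem _ h4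
  obtain ⟨M, hM⟩ := Ideal.exists_maximal (R' ⊗[R] C)
  refine IsLocalRing.of_unique_max_ideal ⟨M, hM, fun N hN => ?_⟩
  have : M.IsMaximal := hM
  have : N.IsMaximal := hN
  exact le_antisymm (key N M) (key M N)

open Groth.Agent.Desc.NormalSmooth in
/-- Local rings of étale algebras over a geometrically unibranch local domain are domains. -/
theorem isDomain_localization_of_etale {A C R' : Type*} [CommRing A] [CommRing C] [Algebra A C]
    [Algebra.Etale A C] (p : Ideal A) [p.IsPrime] (Q : Ideal C) [Q.IsPrime] [Q.LiesOver p]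
    [CommRing R'] [Algebra (Localization.AtPrime p) R'] [Algebra A R']
    [IsScalarTower A (Localization.AtPrime p) R'] [IsDomain R'] [IsIntegrallyClosed R'] [IsLocalRing R']
    [Algebra.IsIntegral (Localization.AtPrime p) R']
    (hinj : Function.Injective (algebraMap (Localization.AtPrime p) R'))
    (q : ℕ) [ExpChar (R' ⧸ maximalIdeal R') q]
    (h : ∀ x : R', ∃ n : ℕ, ∃ a : Localization.AtPrime p,
      x ^ q ^ n - algebraMap _ _ a ∈ maximalIdeal R') :
    IsDomain (Localization.AtPrime Q) := by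
  let R := Localization.AtPrime p
  let CQ := Localization.AtPrime Q
  let _ : Algebra R CQ := Localization.AtPrime.algebraOfLiesOver p Q
  have : IsScalarTower A R CQ := inferInstance
  have hloc : IsLocalHom (algebraMap R CQ) := by
    rw [RingHom.algebraMap_toAlgebra]
    exact Localization.isLocalHom_localRingHom p Q (algebraMap A C) Ideal.LiesOver.over
  have hflat : Module.Flat A CQ := Module.Flat.trans A C CQ
  have hflat' : Module.Flat R CQ := by
    have : Module.Flat R (R ⊗[A] CQ) := inferInstance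
    exact Module.Flat.of_linearEquiv (IsLocalization.moduleLid p.primeCompl R CQ).symm
  have hinjD : Function.Injective (Algebra.TensorProduct.includeRight : CQ →ₐ[R] R' ⊗[R] CQ) :=
    Algebra.TensorProduct.includeRight_injective hinj
  have : Nontrivial (R' ⊗[R] CQ) := hinjD.nontrivial
  have hD : IsLocalRing (R' ⊗[R] CQ) := isLocalRing_tensor q h
  let e : R' ⊗[R] CQ ≃ₐ[R] R' ⊗[A] CQ := IsLocalization.algebraTensorEquiv p.primeCompl R R' CQ
  have hD' : IsLocalRing (R' ⊗[A] CQ) := e.toRingEquiv.isLocalRing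
  let _ : Algebra (R' ⊗[A] C) (R' ⊗[A] CQ) :=
    (Algebra.TensorProduct.map (AlgHom.id A R') (IsScalarTower.toAlgHom A C CQ)).toAlgebra
  have : IsScalarTower R' (R' ⊗[A] C) (R' ⊗[A] CQ) :=
    .of_algebraMap_eq <| by intro; simp [RingHom.algebraMap_toAlgebra]
  have : IsLocalization (Q.primeCompl.map (Algebra.TensorProduct.includeRight (R := A) (A := R')))
    (R' ⊗[A] CQ) := IsLocalization.tensorProduct_tensorProduct_right A R' Q.primeCompl CQ
      (by ext; simp [RingHom.algebraMap_toAlgebra])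
  have : Algebra.Etale R' (R' ⊗[A] C) := inferInstance
  have hn := (normalAt_iff_of_isLocalization
    (Q.primeCompl.map (Algebra.TensorProduct.includeRight (R := A) (A := R')))
    (maximalIdeal (R' ⊗[A] CQ)) _ rfl).mpr (normalAt_of_etale_of_isIntegrallyClosed (A := R') _)
  have hdom : IsDomain (Localization.AtPrime (maximalIdeal (R' ⊗[A] CQ))) := hn.1
  have hinj2 : Function.Injective
      (algebraMap (R' ⊗[A] CQ) (Localization.AtPrime (maximalIdeal (R' ⊗[A] CQ)))) := by
    refine IsLocalization.injective (Localization.AtPrime (maximalIdeal (R' ⊗[A] CQ)))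
      (M := (maximalIdeal (R' ⊗[A] CQ)).primeCompl) ?_
    intro x hx
    have : IsUnit x := by
      by_contra hu
      exact hx ((IsLocalRing.mem_maximalIdeal _).mpr hu)
    exact this.mem_nonZeroDivisors
  have hdom2 : IsDomain (R' ⊗[A] CQ) := hinj2.isDomain _
  have hinj3 : Function.Injective (e.toRingHom.comp
      (Algebra.TensorProduct.includeRight : CQ →ₐ[R] R' ⊗[R] CQ).toRingHom) :=
    e.injective.comp hinjD
  exact hinj3.isDomain _

/-- Elements of an étale algebra over a domain are algebraic. -/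
theorem isAlgebraic_of_etale {A C : Type*} [CommRing A] [IsDomain A] [CommRing C] [Algebra A C]
    [Algebra.Etale A C] (x : C) : IsAlgebraic A x := by
  let K := FractionRing A
  have hfin : Module.Finite K (K ⊗[A] C) := Algebra.FormallyUnramified.finite_of_free K _
  have h1 : IsAlgebraic K ((1 : K) ⊗ₜ[A] x) := Algebra.IsAlgebraic.isAlgebraic _
  have h2 : IsAlgebraic A ((1 : K) ⊗ₜ[A] x) := (IsFractionRing.isAlgebraic_iff A K (K ⊗[A] C)).mpr h1
  have hinj : Function.Injective (Algebra.TensorProduct.includeRight : C →ₐ[A] K ⊗[A] C) :=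
    Algebra.TensorProduct.includeRight_injective (IsFractionRing.injective A K)
  exact (isAlgebraic_algHom_iff _ hinj).mp h2

/-- In an étale algebra `C` over a domain the kernel of `C → C_Q` is killed by one element outside `Q`. -/
theorem exists_uniform_annihilator {A C : Type*} [CommRing A] [IsDomain A] [CommRing C] [Algebra A C]
    [Algebra.Etale A C] (Q : Ideal C) [Q.IsPrime] :
    ∃ s : C, s ∉ Q ∧ ∀ x : C, algebraMap C (Localization.AtPrime Q) x = 0 → s * x = 0 := by
  classical
  let K := FractionRing A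
  have hfin : Module.Finite K (K ⊗[A] C) := Algebra.FormallyUnramified.finite_of_free K _
  have hinj : Function.Injective (Algebra.TensorProduct.includeRight : C →ₐ[A] K ⊗[A] C) :=
    Algebra.TensorProduct.includeRight_injective (IsFractionRing.injective A K)
  have hnoeth : IsNoetherianRing (K ⊗[A] C) := isNoetherian_of_tower K inferInstance
  let N : Set (K ⊗[A] C) := (Algebra.TensorProduct.includeRight : C →ₐ[A] K ⊗[A] C) ''
    {x | algebraMap C (Localization.AtPrime Q) x = 0}
  obtain ⟨t, ht, hspan⟩ := (Submodule.fg_span_iff_fg_span_finset_subset N).mp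
    (IsNoetherian.noetherian (Submodule.span (K ⊗[A] C) N))
  have hex : ∀ y : t, ∃ s : C, s ∉ Q ∧ (1 : K) ⊗ₜ[A] s * y.1 = 0 := by
    rintro ⟨y, hy⟩
    obtain ⟨x, hx, rfl⟩ := ht hy
    obtain ⟨⟨s, hs⟩, hsx⟩ := (IsLocalization.map_eq_zero_iff Q.primeCompl _ _).mp hx
    exact ⟨s, hs, by simp [hsx]⟩
  choose s hs hsy using hex
  refine ⟨∏ y, s y, ?_, ?_⟩
  · intro h
    obtain ⟨y, -, hy⟩ := (Ideal.IsPrime.prod_mem_iff).mp h
    exact hs y hy
  · intro x hx
    apply hinj
    rw [map_zero, map_mul]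
    have hx' : (Algebra.TensorProduct.includeRight : C →ₐ[A] K ⊗[A] C) x ∈
        Submodule.span (K ⊗[A] C) (t : Set (K ⊗[A] C)) := by
      rw [← hspan]
      exact Submodule.subset_span ⟨x, hx, rfl⟩
    generalize (Algebra.TensorProduct.includeRight : C →ₐ[A] K ⊗[A] C) x = z at hx'
    induction hx' using Submodule.span_induction with
    | mem y hy =>
      have h2 : (Algebra.TensorProduct.includeRight : C →ₐ[A] K ⊗[A] C) (s ⟨y, hy⟩) * y = 0 :=
        hsy ⟨y, hy⟩
      rw [← Finset.mul_prod_erase _ _ (Finset.mem_univ (⟨y, hy⟩ : t)), map_mul, mul_right_comm, h2,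
        zero_mul]
    | zero => simp
    | add y z _ _ hy hz => rw [mul_add, hy, hz, add_zero]
    | smul a y _ hy => rw [smul_eq_mul, mul_left_comm, hy, mul_zero]

end Groth.Agent.Ega4dA.GeomUni
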