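import Groth.Agent.Ega4dA.ParaBig

/-!
# Parafactoriality of a pair from a smaller dense open

`isParafactorialPair_of_le`: `(X, Y)` is parafactorial if near every `y ∈ Y` there are opens
`V₀ ∋ y` and `R ≤ Y.compl` such that functions extend from `W ⊓ R` to `W` for `W ≤ V₀`, and
modules invertible on `V ⊓ R` have generators over `W ⊓ R` for a neighbourhood `W` of `y`.
-/

set_option autoImplicit false
universe u
open CategoryTheory CategoryTheory.Limits AlgebraicGeometry TopologicalSpace Opposite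
open Groth.Agent.Ega4dA.GenSec Groth.Agent.Ega4dA.ParaCrit Groth.Agent.Ega4dA.ParaBig

namespace Groth.Agent.Ega4dA.PairAssembly

variable {X : Scheme.{u}}

theorem bijective_resO_congr {A A' B B' : X.Opens} (eA : A = A') (eB : B = B') (hle : A ≤ B)
    (hle' : A' ≤ B') (h : Function.Bijective (resO X hle)) : Function.Bijective (resO X hle') := by
  subst eA; subst eB; exact h

/-- A generator over `V ⊓ R` of a module invertible on `V ⊓ U ≥ V ⊓ R` extends to `V ⊓ U` if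
functions extend uniquely. -/
theorem exists_isGen_of_le {F : X.Modules} {R V U : X.Opens} (hF : InvOn F (V ⊓ U))
    (hR : ∀ W ≤ V, Function.Bijective (resO X (inf_le_left : W ⊓ R ≤ W)))
    {s : Γ(F, V ⊓ R)} (hs : IsGen F (V ⊓ R) s) :
    ∃ t : Γ(F, V ⊓ U), IsGen F (V ⊓ U) t := by
  have hF' := (invOn_iff (V ⊓ U) F).mp hF
  have hext : FunExt ((V ⊓ U : X.Opens) : Scheme.{u}) ((V ⊓ U).ι ⁻¹ᵁ R) := by
    intro W
    have h1 : (V ⊓ U).ι ''ᵁ W ≤ V := by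
      rintro _ ⟨z, -, rfl⟩
      exact z.2.1
    have h2 : (V ⊓ U).ι ''ᵁ (W ⊓ (V ⊓ U).ι ⁻¹ᵁ R) = ((V ⊓ U).ι ''ᵁ W) ⊓ R := by
      ext z
      constructor
      · rintro ⟨w, ⟨hw1, hw2⟩, rfl⟩
        exact ⟨⟨w, hw1, rfl⟩, hw2⟩
      · rintro ⟨⟨w, hw1, rfl⟩, hw2⟩
        exact ⟨w, ⟨hw1, hw2⟩, rfl⟩
    have h3 : (V ⊓ U).ι ''ᵁ (W ⊓ (V ⊓ U).ι ⁻¹ᵁ R) ≤ (V ⊓ U).ι ''ᵁ W := by
      rw [h2]; exact inf_le_left
    exact bijective_resO_congr h2.symm rfl inf_le_left h3 (hR _ h1)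
  have hle : (V ⊓ U).ι ''ᵁ ((V ⊓ U).ι ⁻¹ᵁ R) ≤ V ⊓ R := by
    rintro _ ⟨z, hz, rfl⟩
    exact ⟨z.2.1, hz⟩
  have hbij := extBij_of_isInvertible hF' hext ⊤
  have hle' : (V ⊓ U).ι ''ᵁ (⊤ ⊓ (V ⊓ U).ι ⁻¹ᵁ R) ≤ V ⊓ R := by
    rintro _ ⟨z, hz, rfl⟩
    exact ⟨z.2.1, hz.2⟩
  obtain ⟨t, ht⟩ := hbij.2 (show Γ(F.restrict (V ⊓ U).ι, ⊤ ⊓ (V ⊓ U).ι ⁻¹ᵁ R) from res F hle' s)
  have hgen : IsGen (F.restrict (V ⊓ U).ι) ⊤ t := by
    refine isGen_of_inf hF' hext ?_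
    rw [ht, isGen_restrict_iff]
    exact hs.mono _
  rw [isGen_restrict_iff] at hgen
  have hle2 : V ⊓ U ≤ (V ⊓ U).ι ''ᵁ ⊤ := by simp
  exact ⟨res F hle2 t, hgen.mono hle2⟩

/-- Parafactoriality of a pair from smaller opens. -/
theorem isParafactorialPair_of_le {Y : Closeds X}
    (h : ∀ y ∈ Y, ∃ V₀ R : X.Opens, y ∈ V₀ ∧ R ≤ Y.compl ∧
      (∀ W ≤ V₀, Function.Bijective (resO X (inf_le_left : W ⊓ R ≤ W))) ∧
      (∀ F : X.Modules, ∀ V ≤ V₀, y ∈ V → InvOn F (V ⊓ R) → ∃ W : X.Opens, y ∈ W ∧ W ≤ V ∧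
        ∃ s : Γ(F, W ⊓ R), IsGen F (W ⊓ R) s)) :
    ParaF.IsParafactorialPair X Y := by
  rw [isParafactorialPair_iff_invOn]
  constructor
  · -- functions extend
    refine FunExt.of_cover fun x => ?_
    by_cases hx : x ∈ Y
    · obtain ⟨V₀, R, hxV₀, hR, hbij, -⟩ := h x hx
      refine ⟨V₀, hxV₀, fun V hV => ?_⟩
      have hle : V ⊓ R ≤ V ⊓ Y.compl := inf_le_inf_left V hR
      have h1 := hbij V hV
      have h2 := hbij (V ⊓ Y.compl) (inf_le_left.trans hV)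
      have h3 : (V ⊓ Y.compl) ⊓ R = V ⊓ R := by
        rw [inf_assoc, inf_eq_right.mpr hR]
      have h4 : Function.Bijective (resO X hle) := bijective_resO_congr h3 rfl _ _ h2
      have h5 : resO X (inf_le_left : V ⊓ R ≤ V) = resO X hle ∘
          resO X (inf_le_left : V ⊓ Y.compl ≤ V) := by
        funext r; simp
      rw [h5] at h1
      exact (Function.Bijective.of_comp_iff' h4 _).mp h1
    · refine ⟨Y.compl, hx, fun V hV => ?_⟩
      have h1 : V ⊓ Y.compl = V := inf_eq_left.mpr hV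
      refine bijective_resO_congr h1.symm rfl le_rfl inf_le_left ?_
      have : resO X (le_refl V) = id := by funext r; simp
      rw [this]
      exact Function.bijective_id
  · intro V F hF y hyV hyY
    obtain ⟨V₀, R, hxV₀, hR, hbij, htriv⟩ := h y hyY
    have hF1 : InvOn F ((V ⊓ V₀) ⊓ R) :=
      hF.mono (le_inf (inf_le_left.trans inf_le_left) (inf_le_right.trans hR))
    obtain ⟨W, hyW, hWV, s, hs⟩ := htriv F (V ⊓ V₀) inf_le_right ⟨hyV, hxV₀⟩ hF1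
    obtain ⟨t, ht⟩ := exists_isGen_of_le (F := F) (U := Y.compl) (V := W)
      (hF.mono (inf_le_inf_right _ (hWV.trans inf_le_left)))
      (fun W' hW' => hbij W' (hW'.trans (hWV.trans inf_le_right))) hs
    exact ⟨W, hWV.trans inf_le_left, hyW, t, ht⟩

end Groth.Agent.Ega4dA.PairAssembly
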