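import Groth.Agent.Ega4dA.StalkQC
import Groth.Agent.Ega4dA.StalkUFD
import Groth.Agent.Picfga.LineHom

/-!
# Extension of invertible modules over finitely many closed points
-/

set_option autoImplicit false
universe u
open CategoryTheory CategoryTheory.Limits AlgebraicGeometry TopologicalSpace Opposite
open Groth.Agent.Ega4dA.GenSec Groth.Agent.Ega4dA.ParaCrit Groth.Agent.Ega4dA.ParaBig
open Groth.Agent.Ega4dA.StalkApprox Groth.Agent.Ega4dA.StalkApprox2
open Groth.Agent.Ega4dA.ParaStalkA Groth.Agent.Ega4dA.ParaStalkB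

namespace Groth.Agent.Ega4dA.ParaExt

variable {X T : Scheme.{u}}

/-- Functions on an open inside the image of an open immersion. -/
theorem pb_bijective (i : T ⟶ X) [IsOpenImmersion i] {W : X.Opens} (hW : W ≤ i.opensRange) :
    Function.Bijective (pb i (U := W)) := by
  have := i.isIso_app W hW
  exact (ConcreteCategory.isIso_iff_bijective (i.app W)).mp inferInstance

theorem smul_restrict_pb (i : T ⟶ X) [IsOpenImmersion i] (M : X.Modules) {W : X.Opens}
    (r : Γ(X, W)) (s : Γ(M.restrict i, i ⁻¹ᵁ W)) :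
    pb i r • s = (show Γ(M.restrict i, i ⁻¹ᵁ W) from
      (resO X (i.image_preimage_le W) r • (show Γ(M, i ''ᵁ i ⁻¹ᵁ W) from s) :
        Γ(M, i ''ᵁ i ⁻¹ᵁ W))) := by
  rw [smul_restrict]
  have h : (i.appIso (i ⁻¹ᵁ W)).inv (pb i r) = resO X (i.image_preimage_le W) r :=
    congr($(i.app_appIso_inv W) r)
  rw [h]

/-- Sections of `M.restrict i` over `i ⁻¹ᵁ W` coming from sections of `M` over `W`. -/
noncomputable def rst (i : T ⟶ X) [IsOpenImmersion i] (M : X.Modules) {W : X.Opens}
    (s : Γ(M, W)) : Γ(M.restrict i, i ⁻¹ᵁ W) :=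
  (show Γ(M, i ''ᵁ i ⁻¹ᵁ W) from res M (i.image_preimage_le W) s)

theorem rst_res (i : T ⟶ X) [IsOpenImmersion i] (M : X.Modules) {W W' : X.Opens} (h : W' ≤ W)
    (s : Γ(M, W)) : rst i M (res M h s) = res (M.restrict i) (preimage_le i h) (rst i M s) := by
  rw [res_restrict]
  unfold rst
  rw [res_res, res_res]

theorem rst_smul (i : T ⟶ X) [IsOpenImmersion i] (M : X.Modules) {W : X.Opens}
    (r : Γ(X, W)) (s : Γ(M, W)) : rst i M (r • s) = pb i r • rst i M s := by
  rw [smul_restrict_pb]
  unfold rst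
  rw [res_smul]

theorem isGen_rst (i : T ⟶ X) [IsOpenImmersion i] (M : X.Modules) {W : X.Opens}
    {s : Γ(M, W)} (hs : IsGen M W s) : IsGen (M.restrict i) (i ⁻¹ᵁ W) (rst i M s) := by
  rw [isGen_restrict_iff]
  exact hs.mono _

/-- Gluing of an invertible module `L` on an open subscheme with trivial modules on the `W k`. -/
theorem exists_glue_mod (i : T ⟶ X) [IsOpenImmersion i] (L : T.Modules) {K : Type u}
    (W : K → X.Opens) (n : ∀ k, Γ(L, i ⁻¹ᵁ W k)) (hn : ∀ k, IsGen L (i ⁻¹ᵁ W k) (n k))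
    (hW : ∀ k l, k ≠ l → W k ⊓ W l ≤ i.opensRange) (hcov : ⨆ k, W k = ⊤) :
    ∃ M : X.Modules, PicF.IsInvertible M ∧ Nonempty (M.restrict i ≅ L) := by
  classical
  -- transition functions
  have hg : ∀ k l, ∃ g : Γ(X, W k ⊓ W l), (k = l → g = 1) ∧
      res L (preimage_le i inf_le_left) (n k) =
        pb i g • res L (preimage_le i inf_le_right) (n l) := by
    intro k l
    by_cases hkl : k = l
    · subst hkl
      exact ⟨1, fun _ => rfl, by rw [pb_one, one_smul]⟩
    · obtain ⟨a, ha⟩ := (hn l).exists_eq (preimage_le i (inf_le_right : W k ⊓ W l ≤ W l))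
        (res L (preimage_le i inf_le_left) (n k))
      obtain ⟨g, hg⟩ := (pb_bijective i (hW k l hkl)).2 a
      exact ⟨g, fun h => absurd h hkl, by rw [hg, ha]⟩
  choose g hg1 hg using hg
  have hgT : ∀ k l (V : X.Opens) (hk : V ≤ W k) (hl : V ≤ W l),
      res L (preimage_le i hk) (n k) =
        pb i (resO X (le_inf hk hl) (g k l)) • res L (preimage_le i hl) (n l) := by
    intro k l V hk hl
    have := congrArg (res L (preimage_le i (le_inf hk hl))) (hg k l)
    simpa [pb_resO] using this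
  obtain ⟨M, m, hm, hmm⟩ := exists_of_cocycle W g (fun k => hg1 k k rfl) (by
    intro k l j V hk hl hj
    by_cases hkl : k = l
    · subst hkl
      rw [hg1 k k rfl, resO_one, one_mul]
    · apply (pb_bijective i ((le_inf hk hl).trans (hW k l hkl))).1
      refine (hn j).injective (preimage_le i hj) ?_
      rw [pb_mul, mul_smul, ← hgT l j V hl hj, ← hgT k l V hk hl, ← hgT k j V hk hj])
  refine ⟨M, ?_, ?_⟩
  · rw [isInvertible_iff]
    intro x
    have hx : x ∈ ⨆ k, W k := by rw [hcov]; trivial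
    obtain ⟨k, hk⟩ := Opens.mem_iSup.mp hx
    exact ⟨W k, hk, m k, hm k⟩
  · have hU : ⨆ k, i ⁻¹ᵁ W k = ⊤ := by
      rw [← Scheme.Hom.preimage_iSup, hcov, Scheme.Hom.preimage_top]
    have key : ∀ k l, ∃ a : Γ(T, i ⁻¹ᵁ W k ⊓ i ⁻¹ᵁ W l),
        Fdesc.LocGen.res (M.restrict i) inf_le_left (rst i M (m k)) =
          a • Fdesc.LocGen.res (M.restrict i) inf_le_right (rst i M (m l)) ∧
        Fdesc.LocGen.res L inf_le_left (n k) = a • Fdesc.LocGen.res L inf_le_right (n l) := by
      intro k l
      refine ⟨pb i (g k l), ?_, hg k l⟩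
      have := congrArg (rst i M) (hmm k l (W k ⊓ W l) inf_le_left inf_le_right)
      rw [rst_smul, rst_res, rst_res, resO_self] at this
      exact this
    obtain ⟨φ, -⟩ := Picfga.LineHom.exists_iso (Y := T) (L := M.restrict i) (N := L)
      (U := fun k => i ⁻¹ᵁ W k) hU (e := fun k => rst i M (m k))
      (fun k => isGen_rst i M (hm k)) (n := n)
      (Picfga.LineHom.trans_of_inf (fun k => isGen_rst i M (hm k)) key) hn
    exact ⟨φ⟩

/-- The open set obtained by adding the point `x` to `V`, if the complement of `V` is a finite set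
of closed points. -/
theorem isOpen_insert {V : X.Opens} (hfin : ((V : Set X)ᶜ).Finite)
    (hcl : ∀ x, x ∉ V → IsClosed ({x} : Set X)) (x : X) : IsOpen ((V : Set X) ∪ {x}) := by
  have h1 : (V : Set X) ∪ {x} = (⋃ y ∈ (V : Set X)ᶜ \ {x}, {y})ᶜ := by
    ext z
    simp only [Set.mem_union, Set.mem_singleton_iff, Set.mem_compl_iff, Set.mem_iUnion,
      Set.mem_sdiff, exists_prop, not_exists, not_and]
    constructor
    · rintro h y ⟨hy, hyx⟩ rfl
      rcases h with h | h
      · exact hy h
      · exact hyx h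
    · intro h
      by_contra hcon
      push Not at hcon
      exact h z ⟨hcon.1, hcon.2⟩ rfl
  rw [h1, isOpen_compl_iff]
  exact (hfin.subset Set.sdiff_subset).isClosed_biUnion fun y hy => hcl y hy.1

/-- Extension of invertible modules over finitely many closed points at which every invertible
module on the punctured spectrum is trivial. -/
theorem exists_extension [IsLocallyNoetherian X] (i : T ⟶ X) [IsOpenImmersion i]
    (hfin : ((i.opensRange : Set X)ᶜ).Finite)
    (hcl : ∀ x, x ∉ i.opensRange → IsClosed ({x} : Set X))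
    (hpic : ∀ x, x ∉ i.opensRange →
      ParaF.PicTrivial (FEt.puncturedSpec (X.presheaf.stalk x) : Scheme.{u}))
    (L : T.Modules) (hL : PicF.IsInvertible L) :
    ∃ M : X.Modules, PicF.IsInvertible M ∧ Nonempty (M.restrict i ≅ L) := by
  set V : X.Opens := i.opensRange with hV
  let F : X.Modules := (Scheme.Modules.pushforward i).obj L
  have hF : InvOn F V := invOn_pushforward i hL
  have key : ∀ x : X, ∃ W : X.Opens, x ∈ W ∧ (∀ z ∈ W, z ∈ V ∨ z = x) ∧
      ∃ s : Γ(F, W ⊓ V), IsGen F (W ⊓ V) s := by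
    intro x
    by_cases hx : x ∈ V
    · obtain ⟨W, hWV, hxW, s, hs⟩ := hF x hx
      exact ⟨W, hxW, fun z hz => Or.inl (hWV hz), _, hs.mono inf_le_left⟩
    · obtain ⟨V₀, hV₀, hxV₀, -⟩ := Opens.isBasis_iff_nbhd.mp X.isBasis_affineOpens
        (show x ∈ (⊤ : X.Opens) from trivial)
      have hD : X.fromSpecStalk x ⁻¹ᵁ (V₀ ⊓ V) = D x := by
        refine le_antisymm (le_D fun h => hx h.2) (D_le fun y' hy' hne => ?_)
        refine ⟨hy'.mem_open V₀.2 hxV₀, ?_⟩
        by_contra hy'V
        exact hne ((hcl y' hy'V).closure_eq ▸ specializes_iff_mem_closure.mp hy').symm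
      obtain ⟨W, hxW, hWV₀, s, hs⟩ := StalkQC.exists_isGen_of_stalk (y := x) hV₀ hxV₀
        (U := V₀ ⊓ V) inf_le_left (isCompact_of_le hV₀ inf_le_left) (by
          rw [hD]
          exact (picTrivial_iff _).mp (hpic x hx)) F (hF.mono inf_le_right)
      let O : X.Opens := ⟨(V : Set X) ∪ {x}, isOpen_insert hfin hcl x⟩
      refine ⟨W ⊓ O, ⟨hxW, Or.inr rfl⟩, fun z hz => hz.2, _, hs.mono
        (show (W ⊓ O) ⊓ V ≤ W ⊓ (V₀ ⊓ V) from
          le_inf (inf_le_left.trans inf_le_left)
            (le_inf ((inf_le_left.trans inf_le_left).trans hWV₀) inf_le_right))⟩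
  choose W hxW hW s hs using key
  have h1 : ∀ k, IsGen L (i ⁻¹ᵁ (W k ⊓ V)) (show Γ(L, i ⁻¹ᵁ (W k ⊓ V)) from s k) := fun k =>
    (isGen_pushforward_iff_of_le i L (inf_le_right : W k ⊓ V ≤ V) (s k)).mp (hs k)
  have hle : ∀ k, i ⁻¹ᵁ W k ≤ i ⁻¹ᵁ (W k ⊓ V) := fun k z hz => ⟨hz, ⟨z, rfl⟩⟩
  refine exists_glue_mod i L W (fun k => res L (hle k) (show Γ(L, i ⁻¹ᵁ (W k ⊓ V)) from s k))
    (fun k => (h1 k).mono (hle k)) (fun k l hkl z hz => ?_) (by
      rw [eq_top_iff]
      exact fun z _ => Opens.mem_iSup.mpr ⟨z, hxW z⟩)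
  rcases hW k z hz.1 with h | h
  · exact h
  · rcases hW l z hz.2 with h' | h'
    · exact h'
    · exact absurd (h.symm.trans h') hkl

/-- Triviality of invertible modules on the punctured spectrum depends only on the isomorphism class
of the local ring. -/
theorem picTrivial_punctured_of_ringEquiv {A B : Type u} [CommRing A] [CommRing B] [IsLocalRing A]
    [IsLocalRing B] (e : A ≃+* B) (h : ParaF.PicTrivial (FEt.puncturedSpec A : Scheme.{u})) :
    ParaF.PicTrivial (FEt.puncturedSpec B : Scheme.{u}) := by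
  intro L hL
  let j : Spec (CommRingCat.of B) ⟶ Spec (CommRingCat.of A) :=
    Spec.map (CommRingCat.ofHom e.toRingHom)
  have hiso : IsIso (CommRingCat.ofHom e.toRingHom) :=
    inferInstanceAs (IsIso e.toCommRingCatIso.hom)
  have hj : IsIso j := inferInstance
  have hloc : IsLocalHom e.toRingHom := ⟨fun a ha => (MulEquiv.isUnit_map e).mp ha⟩
  have hcl : j (IsLocalRing.closedPoint B) = IsLocalRing.closedPoint A :=
    IsLocalRing.comap_closedPoint e.toRingHom
  have hinj : Function.Injective j := j.isOpenEmbedding.injective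
  have hsurj : Function.Surjective j := j.surjective
  obtain ⟨s, hs⟩ := LocalRingCrit.exists_gen_of_picTrivial h ((FEt.puncturedSpec B).ι ≫ j) (by
    ext x
    obtain ⟨y, rfl⟩ := hsurj x
    constructor
    · rintro ⟨z, hz⟩ hy
      have h1 : z.1 = y := hinj hz
      have h2 : j y = IsLocalRing.closedPoint A := hy
      exact z.2 (h1.trans (hinj (h2.trans hcl.symm)))
    · intro hy
      refine ⟨⟨y, fun hy' => hy ?_⟩, rfl⟩
      have h2 : y = IsLocalRing.closedPoint B := hy'
      rw [h2]
      exact hcl) L hL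
  exact hs.nonempty_iso

theorem picTrivial_punctured_iff_of_ringEquiv {A B : Type u} [CommRing A] [CommRing B]
    [IsLocalRing A] [IsLocalRing B] (e : A ≃+* B) :
    ParaF.PicTrivial (FEt.puncturedSpec A : Scheme.{u}) ↔
      ParaF.PicTrivial (FEt.puncturedSpec B : Scheme.{u}) :=
  ⟨picTrivial_punctured_of_ringEquiv e, picTrivial_punctured_of_ringEquiv e.symm⟩

/-- Opens `U' ≤ U` of the spectrum of a Noetherian ring `A` such that `U \ U'` consists of finitely
many closed points `q` of `U` for which the invertible modules on the punctured spectrum of `A_q`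
are trivial: invertible modules extend from `U'` to `U`. -/
theorem exists_extension_spec (A : Type u) [CommRing A] [IsNoetherianRing A]
    (U U' : (Spec (CommRingCat.of A)).Opens) (h : U' ≤ U)
    (hfin : {x | x ∈ U ∧ x ∉ U'}.Finite)
    (hcl : ∀ x : PrimeSpectrum A, x ∈ U → x ∉ U' → ∀ y : PrimeSpectrum A, y ∈ U →
      x.asIdeal ≤ y.asIdeal → y = x)
    (hpic : ∀ x : PrimeSpectrum A, x ∈ U → x ∉ U' →
      ParaF.PicTrivial (FEt.puncturedSpec (Localization.AtPrime x.asIdeal) : Scheme.{u}))
    (L : (U' : Scheme.{u}).Modules) (hL : PicF.IsInvertible L) :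
    ∃ M : (U : Scheme.{u}).Modules, PicF.IsInvertible M ∧
      Nonempty (M.restrict ((Spec (CommRingCat.of A)).homOfLE h) ≅ L) := by
  have hN : IsLocallyNoetherian (U : Scheme.{u}) := inferInstance
  have hr : ∀ x : U, x ∈ ((Spec (CommRingCat.of A)).homOfLE h).opensRange ↔ x.1 ∈ U' := by
    intro x
    rw [Scheme.opensRange_homOfLE]
    exact Iff.rfl
  refine exists_extension ((Spec (CommRingCat.of A)).homOfLE h) ?_ ?_ ?_ L hL
  · refine (hfin.preimage (f := (Subtype.val : U → Spec (CommRingCat.of A)))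
      Subtype.val_injective.injOn).subset ?_
    intro x hx
    exact ⟨x.2, fun hx' => hx ((hr x).mpr hx')⟩
  · intro x hx
    have hx' : x.1 ∉ U' := fun h => hx ((hr x).mpr h)
    have h1 : ({x} : Set U) = Subtype.val ⁻¹' (closure {x.1} : Set (Spec (CommRingCat.of A))) := by
      ext y
      constructor
      · rintro rfl
        exact subset_closure rfl
      · intro hy
        have h2 : x.1 ⤳ y.1 := specializes_iff_mem_closure.mpr hy
        have h3 : (x.1 : PrimeSpectrum A).asIdeal ≤ (y.1 : PrimeSpectrum A).asIdeal :=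
          (PrimeSpectrum.le_iff_specializes _ _).mpr h2
        exact Subtype.ext (hcl x.1 x.2 hx' y.1 y.2 h3)
    rw [h1]
    exact isClosed_closure.preimage continuous_subtype_val
  · intro x hx
    have hx' : x.1 ∉ U' := fun h => hx ((hr x).mpr h)
    obtain ⟨e⟩ := StalkUFD.nonempty_stalk_equiv A x.1
    exact picTrivial_punctured_of_ringEquiv
      (e.symm.trans ((U.stalkIso x).symm.commRingCatIsoToRingEquiv)) (hpic x.1 x.2 hx')

end Groth.Agent.Ega4dA.ParaExt
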