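import Mathlib.RingTheory.Localization.FractionRing
import Mathlib.RingTheory.Flat.FaithfullyFlat.Algebra
import Mathlib.RingTheory.Flat.Basic
import Mathlib.LinearAlgebra.TensorProduct.Pi
import Mathlib.RingTheory.TensorProduct.Pi

/-!
# Elementary Picard calculus over a domain

`R` a domain with fraction field `F`, `f : ι → R` a family; `U` the union of the `D(f i)`.

* `MemAway R F f x`: `x` lies in `R[1/f]` inside `F` (vacuous if `f = 0`).
* `FunTriv R F f`: every element of `F` lying in all `R[1/f i]` lies in `R` (functions extend from `U`).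
* `PicTriv R F f`: every Cartier divisor `(D(f i), h i)` on `U` is principal.

Main results: descent of `PicTriv` and ascent of `FunTriv` along (faithfully) flat maps.
-/

set_option autoImplicit false
set_option linter.unusedSectionVars false

namespace Groth.Agent.Ega4dA.PicAlg

open TensorProduct

section Defs

variable (R F : Type*) [CommRing R] [Field F] [Algebra R F]

/-- `x` lies in `R[1/f]` (inside `F`); vacuous for `f = 0`. -/
def MemAway (f : R) (x : F) : Prop :=
  ∃ (k : ℕ) (a : R), algebraMap R F f ^ k * x = algebraMap R F a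

/-- Functions extend uniquely from the union of the `D(f i)` (within the fraction field). -/
def FunTriv {ι : Type*} (f : ι → R) : Prop :=
  ∀ x : F, (∀ i, MemAway R F (f i) x) → ∃ a : R, algebraMap R F a = x

/-- Every Cartier divisor on the union of the `D(f i)`, given by `h i` on `D(f i)`, is principal. -/
def PicTriv {ι : Type*} (f : ι → R) : Prop :=
  ∀ h : ι → F, (∀ i, h i ≠ 0) → (∀ i j, MemAway R F (f i * f j) (h i / h j)) →
    ∃ c : F, c ≠ 0 ∧ ∀ i, MemAway R F (f i) (c * h i) ∧ MemAway R F (f i) (c * h i)⁻¹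

end Defs

section Basic

variable {R F : Type*} [CommRing R] [Field F] [Algebra R F]

theorem memAway_algebraMap (f a : R) : MemAway R F f (algebraMap R F a) :=
  ⟨0, a, by simp⟩

theorem memAway_zero (x : F) : MemAway R F 0 x := ⟨1, 0, by simp⟩

theorem memAway_one_iff (x : F) : MemAway R F 1 x ↔ ∃ a, algebraMap R F a = x := by
  constructor
  · rintro ⟨k, a, h⟩
    exact ⟨a, by simpa using h.symm⟩
  · rintro ⟨a, rfl⟩
    exact memAway_algebraMap _ _

theorem MemAway.mul {f : R} {x y : F} (hx : MemAway R F f x) (hy : MemAway R F f y) :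
    MemAway R F f (x * y) := by
  obtain ⟨k, a, ha⟩ := hx
  obtain ⟨l, b, hb⟩ := hy
  exact ⟨k + l, a * b, by rw [map_mul, ← ha, ← hb]; ring⟩

theorem MemAway.add {f : R} {x y : F} (hx : MemAway R F f x) (hy : MemAway R F f y) :
    MemAway R F f (x + y) := by
  obtain ⟨k, a, ha⟩ := hx
  obtain ⟨l, b, hb⟩ := hy
  exact ⟨k + l, f ^ l * a + f ^ k * b, by
    rw [map_add, map_mul, map_mul, ← ha, ← hb, map_pow, map_pow]; ring⟩

theorem MemAway.pow {f : R} {x : F} (hx : MemAway R F f x) (n : ℕ) : MemAway R F f (x ^ n) := by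
  induction n with
  | zero => exact ⟨0, 1, by simp⟩
  | succ n ih => rw [pow_succ]; exact ih.mul hx

theorem MemAway.of_dvd_pow {f g : R} {x : F} (m : ℕ) (h : f ∣ g ^ m) (hx : MemAway R F f x) :
    MemAway R F g x := by
  obtain ⟨k, a, ha⟩ := hx
  obtain ⟨s, hs⟩ := h
  refine ⟨m * k, s ^ k * a, ?_⟩
  rw [pow_mul, ← map_pow, hs, map_mul, map_mul, mul_pow, ← ha, map_pow]
  ring

theorem MemAway.of_dvd {f g : R} {x : F} (h : f ∣ g) (hx : MemAway R F f x) :
    MemAway R F g x := hx.of_dvd_pow 1 (by simpa using h)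

theorem MemAway.mul_right {f : R} {x : F} (g : R) (hx : MemAway R F f x) :
    MemAway R F (f * g) x := hx.of_dvd (Dvd.intro _ rfl)

theorem MemAway.mul_left {f : R} {x : F} (g : R) (hx : MemAway R F f x) :
    MemAway R F (g * f) x := hx.of_dvd (Dvd.intro_left _ rfl)

theorem MemAway.of_isUnit_mul {f u : R} {x : F} (hu : IsUnit u) (hx : MemAway R F (u * f) x) :
    MemAway R F f x := by
  obtain ⟨v, rfl⟩ := hu
  exact hx.of_dvd ((Units.dvd_mul_left).1 (dvd_refl (↑v * f)) |> fun _ =>
    ⟨↑v⁻¹, by rw [mul_comm (↑v : R) f, mul_assoc]; simp⟩)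

theorem memAway_inv_self {f : R} (m : ℕ) {g : R} (h : g ∣ f ^ m) (hf : algebraMap R F f ≠ 0) :
    MemAway R F f (algebraMap R F g)⁻¹ := by
  obtain ⟨s, hs⟩ := h
  have hg : algebraMap R F g ≠ 0 := by
    intro h0
    apply pow_ne_zero m hf
    rw [← map_pow, hs, map_mul, h0, zero_mul]
  refine ⟨m, s, ?_⟩
  rw [← map_pow, hs, map_mul]
  field_simp

/-- Common exponent. -/
theorem exists_forall_pow {ι : Type*} [Finite ι] (f : ι → R) (x : ι → F)
    (h : ∀ i, MemAway R F (f i) (x i)) :
    ∃ k : ℕ, ∀ i, ∃ a : R, algebraMap R F (f i) ^ k * x i = algebraMap R F a := by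
  classical
  cases nonempty_fintype ι
  choose k a ha using h
  refine ⟨Finset.univ.sup k, fun i => ⟨f i ^ (Finset.univ.sup k - k i) * a i, ?_⟩⟩
  rw [map_mul, ← ha, map_pow, ← mul_assoc, ← pow_add,
    Nat.sub_add_cancel (Finset.le_sup (Finset.mem_univ i))]

/-- Transport along a map of pairs. -/
theorem MemAway.map {R' F' : Type*} [CommRing R'] [Field F'] [Algebra R' F'] [Algebra R R']
    (φ : F →+* F') (hφ : ∀ r, φ (algebraMap R F r) = algebraMap R' F' (algebraMap R R' r))
    {f : R} {x : F} (h : MemAway R F f x) : MemAway R' F' (algebraMap R R' f) (φ x) := by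
  obtain ⟨k, a, ha⟩ := h
  refine ⟨k, algebraMap R R' a, ?_⟩
  rw [← hφ, ← hφ, ← ha, map_mul, map_pow]

/-- Descent along a faithfully flat map. -/
theorem MemAway.of_map {R' F' : Type*} [IsDomain R] [IsFractionRing R F] [CommRing R'] [IsDomain R']
    [Field F'] [Algebra R' F'] [IsFractionRing R' F'] [Algebra R R'] [Module.FaithfullyFlat R R']
    (φ : F →+* F') (hφ : ∀ r, φ (algebraMap R F r) = algebraMap R' F' (algebraMap R R' r))
    {f : R} {x : F} (h : MemAway R' F' (algebraMap R R' f) (φ x)) : MemAway R F f x := by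
  obtain ⟨k, a', ha⟩ := h
  obtain ⟨b, d, hd, rfl⟩ := IsFractionRing.div_surjective (A := R) x
  have hd0 : algebraMap R F d ≠ 0 := by
    simpa using nonZeroDivisors.ne_zero hd
  have hinj' : Function.Injective (algebraMap R' F') := IsFractionRing.injective R' F'
  have h1 : algebraMap R R' (f ^ k * b) = algebraMap R R' d * a' := by
    apply hinj'
    rw [map_mul (algebraMap R' F'), ← ha, ← hφ, ← hφ, ← hφ, ← map_pow φ, ← map_mul φ, ← map_mul φ,
      map_mul, map_pow]
    congr 1
    field_simp
  have h2 : f ^ k * b ∈ Ideal.span {d} := by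
    rw [← Ideal.comap_map_eq_self_of_faithfullyFlat (B := R') (Ideal.span {d}), Ideal.mem_comap,
      Ideal.map_span, Set.image_singleton, Ideal.mem_span_singleton]
    exact ⟨a', h1⟩
  obtain ⟨s, hs⟩ := Ideal.mem_span_singleton.1 h2
  refine ⟨k, s, ?_⟩
  rw [← map_pow, mul_div_assoc', ← map_mul, hs, map_mul]
  field_simp

end Basic

section Flat

/-- Finite intersections of principal ideals commute with flat base change. -/
theorem mem_map_iInf_of_flat {R R' : Type*} [CommRing R] [CommRing R'] [Algebra R R']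
    [Module.Flat R R'] {ι : Type*} [Finite ι] (w : ι → R) (y : R')
    (hy : ∀ i, algebraMap R R' (w i) ∣ y) :
    y ∈ (⨅ i, Ideal.span {w i}).map (algebraMap R R') := by
  classical
  cases nonempty_fintype ι
  let φ : R →ₗ[R] (∀ i, R ⧸ Ideal.span {w i}) :=
    LinearMap.pi fun i => (Ideal.Quotient.mkₐ R (Ideal.span {w i})).toLinearMap
  let I : Ideal R := ⨅ i, Ideal.span {w i}
  have hker : ∀ r, φ r = 0 ↔ r ∈ I := by
    intro r
    simp only [φ, I, Submodule.mem_iInf, funext_iff, LinearMap.pi_apply, Pi.zero_apply]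
    exact forall_congr' fun i => by
      simpa using Ideal.Quotient.eq_zero_iff_mem
  have hex : Function.Exact (Submodule.subtype I) φ := by
    intro r
    rw [hker]
    simp
  have hex' := Module.Flat.lTensor_exact R' hex
  have hz : LinearMap.lTensor R' φ (y ⊗ₜ[R] (1 : R)) = 0 := by
    rw [LinearMap.lTensor_tmul]
    have hφ1 : φ 1 = fun i => (1 : R ⧸ Ideal.span {w i}) := by
      funext i
      simp [φ]
    rw [hφ1]
    apply (TensorProduct.piRight R R R' (fun i => R ⧸ Ideal.span {w i})).injective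
    rw [map_zero]
    funext i
    obtain ⟨r, hr⟩ := hy i
    simp only [TensorProduct.piRight_apply, TensorProduct.piRightHom_tmul, Pi.zero_apply]
    rw [hr, ← Algebra.smul_def, TensorProduct.smul_tmul, Algebra.smul_def, mul_one]
    have : algebraMap R (R ⧸ Ideal.span {w i}) (w i) = 0 :=
      Ideal.Quotient.eq_zero_iff_mem.2 (Ideal.mem_span_singleton_self _)
    rw [this, TensorProduct.tmul_zero]
  obtain ⟨t, ht⟩ := (hex' _).1 hz
  have key : ∀ t : R' ⊗[R] I, TensorProduct.rid R R' (LinearMap.lTensor R' (Submodule.subtype I) t) ∈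
      I.map (algebraMap R R') := by
    intro t
    induction t with
    | zero => simp
    | add a b ha hb => rw [map_add, map_add]; exact Ideal.add_mem _ ha hb
    | tmul a b =>
      rw [LinearMap.lTensor_tmul, TensorProduct.rid_tmul, Algebra.smul_def]
      exact Ideal.mul_mem_right _ _ (Ideal.mem_map_of_mem _ b.2)
  have := key t
  rwa [ht, TensorProduct.rid_tmul, one_smul] at this

variable {R F R' F' : Type*} [CommRing R] [IsDomain R] [Field F] [Algebra R F] [IsFractionRing R F]
  [CommRing R'] [IsDomain R'] [Field F'] [Algebra R' F'] [IsFractionRing R' F'] [Algebra R R']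

/-- Flat base change of `{x ∈ F | x * h i ∈ R[1/f i] for all i}`. -/
theorem exists_ideal_of_flat [Module.Flat R R'] (φ : F →+* F')
    (hφ : ∀ r, φ (algebraMap R F r) = algebraMap R' F' (algebraMap R R' r))
    {ι : Type*} [Finite ι] [Nonempty ι] (f : ι → R) (hf : ∀ i, f i ≠ 0) (h : ι → F)
    (hh : ∀ i, h i ≠ 0) (c : F')
    (hc : ∀ i, MemAway R' F' (algebraMap R R' (f i)) (c * φ (h i))) :
    ∃ (D : R) (I : Ideal R) (y : R'), D ≠ 0 ∧ algebraMap R' F' y = φ (algebraMap R F D) * c ∧
      y ∈ I.map (algebraMap R R') ∧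
      ∀ z ∈ I, ∀ i, MemAway R F (f i) (algebraMap R F z / algebraMap R F D * h i) := by
  classical
  cases nonempty_fintype ι
  obtain ⟨k, hk⟩ := exists_forall_pow (F := F') (fun i => algebraMap R R' (f i)) _ hc
  choose a ha using hk
  have hdiv : ∀ i, ∃ p q : R, p ≠ 0 ∧ q ≠ 0 ∧ h i = algebraMap R F p / algebraMap R F q := by
    intro i
    obtain ⟨p, q, hq, hpq⟩ := IsFractionRing.div_surjective (A := R) (h i)
    refine ⟨p, q, ?_, nonZeroDivisors.ne_zero hq, hpq.symm⟩
    rintro rfl
    apply hh i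
    rw [← hpq]; simp
  choose p q hp hq hpq using hdiv
  have inj : Function.Injective (algebraMap R F) := IsFractionRing.injective R F
  have inj' : Function.Injective (algebraMap R' F') := IsFractionRing.injective R' F'
  let E : ι → R := fun i => f i ^ k * p i
  let D : R := ∏ i, E i
  let D' : ι → R := fun i => ∏ j ∈ Finset.univ.erase i, E j
  have hD' : ∀ i, E i * D' i = D := fun i => Finset.mul_prod_erase _ _ (Finset.mem_univ i)
  have hE : ∀ i, E i ≠ 0 := fun i => mul_ne_zero (pow_ne_zero _ (hf i)) (hp i)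
  have hD : D ≠ 0 := Finset.prod_ne_zero_iff.2 fun i _ => hE i
  have hDi : ∀ i, D' i ≠ 0 := fun i => right_ne_zero_of_mul (by rw [hD' i]; exact hD)
  have hF : ∀ {r : R}, r ≠ 0 → algebraMap R F r ≠ 0 := fun hr h0 => hr (inj (by rw [h0, map_zero]))
  -- `E i * c = q i * a i`
  have h1 : ∀ i, φ (algebraMap R F (E i)) * c = φ (algebraMap R F (q i)) * algebraMap R' F' (a i) := by
    intro i
    rw [← ha i, hpq i, map_div₀]
    have h2 : φ (algebraMap R F (q i)) ≠ 0 := by
      rw [Ne, map_eq_zero]; exact hF (hq i)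
    simp only [E, map_mul, map_pow, hφ] at h2 ⊢
    field_simp
  have h3 : ∀ i, φ (algebraMap R F D) * c =
      algebraMap R' F' (algebraMap R R' (D' i * q i) * a i) := by
    intro i
    rw [← hD' i, map_mul, map_mul, mul_comm (φ (algebraMap R F (E i))), mul_assoc, h1 i]
    simp only [map_mul, hφ]
    ring
  obtain ⟨i0⟩ := (inferInstance : Nonempty ι)
  refine ⟨D, ⨅ i, Ideal.span {D' i * q i}, algebraMap R R' (D' i0 * q i0) * a i0, hD, (h3 i0).symm,
    mem_map_iInf_of_flat _ _ fun i => ?_, fun z hz i => ?_⟩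
  · exact ⟨a i, inj' (by rw [← h3 i0, h3 i])⟩
  · rw [Submodule.mem_iInf] at hz
    obtain ⟨r, hr⟩ := Ideal.mem_span_singleton.1 (hz i)
    refine ⟨k, r, ?_⟩
    rw [hr, hpq i, ← hD' i]
    have e1 := hF (hDi i)
    have e2 := hF (hq i)
    have e3 := hF (hf i)
    have e4 := hF (hp i)
    simp only [E, map_mul, map_pow]
    field_simp

/-- `FunTriv` ascends along flat maps (for a nonempty family of nonzero elements). -/
theorem FunTriv.of_flat_aux [Module.Flat R R'] (φ : F →+* F')
    (hφ : ∀ r, φ (algebraMap R F r) = algebraMap R' F' (algebraMap R R' r))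
    {ι : Type*} [Finite ι] [Nonempty ι] (f : ι → R) (hf : ∀ i, f i ≠ 0)
    (hfun : FunTriv R F f) : FunTriv R' F' (fun i => algebraMap R R' (f i)) := by
  intro x hx
  obtain ⟨D, I, y, hD, hy, hyI, hI⟩ := exists_ideal_of_flat φ hφ f hf (fun _ => 1)
    (fun _ => one_ne_zero) x (by simpa using hx)
  have inj : Function.Injective (algebraMap R F) := IsFractionRing.injective R F
  have hDF : algebraMap R F D ≠ 0 := fun h0 => hD (inj (by rw [h0, map_zero]))
  have hle : I ≤ Ideal.span {D} := by
    intro z hz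
    obtain ⟨a, ha⟩ := hfun (algebraMap R F z / algebraMap R F D) (by simpa using hI z hz)
    rw [Ideal.mem_span_singleton]
    refine ⟨a, inj ?_⟩
    rw [map_mul, ha]
    field_simp
  have h1 := Ideal.map_mono (f := algebraMap R R') hle hyI
  rw [Ideal.map_span, Set.image_singleton, Ideal.mem_span_singleton] at h1
  obtain ⟨b, rfl⟩ := h1
  refine ⟨b, ?_⟩
  have hne : φ (algebraMap R F D) ≠ 0 := by rwa [Ne, map_eq_zero]
  rw [map_mul, ← hφ] at hy
  exact mul_left_cancel₀ hne hy

/-- Passing to the subfamily of nonzero members does not change `FunTriv`. -/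
theorem funTriv_subtype_iff {ι : Type*} (f : ι → R) :
    FunTriv R F (fun i : {i // f i ≠ 0} => f i.1) ↔ FunTriv R F f := by
  constructor
  · intro h x hx
    exact h x fun i => hx i.1
  · intro h x hx
    refine h x fun i => ?_
    by_cases hi : f i = 0
    · rw [hi]; exact memAway_zero x
    · exact hx ⟨i, hi⟩

/-- Passing to the subfamily of nonzero members does not change `PicTriv`. -/
theorem picTriv_subtype_iff {ι : Type*} (f : ι → R) :
    PicTriv R F (fun i : {i // f i ≠ 0} => f i.1) ↔ PicTriv R F f := by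
  classical
  constructor
  · intro hP h hh hij
    obtain ⟨c, hc, hc'⟩ := hP (fun i => h i.1) (fun i => hh i.1) (fun i j => hij i.1 j.1)
    refine ⟨c, hc, fun i => ?_⟩
    by_cases hi : f i = 0
    · rw [hi]; exact ⟨memAway_zero _, memAway_zero _⟩
    · exact hc' ⟨i, hi⟩
  · intro hP h hh hij
    obtain ⟨c, hc, hc'⟩ := hP (fun i => if hi : f i ≠ 0 then h ⟨i, hi⟩ else 1)
      (fun i => by
        by_cases hi : f i ≠ 0
        · rw [dif_pos hi]; exact hh _
        · rw [dif_neg hi]; exact one_ne_zero)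
      (fun i j => by
        by_cases hi : f i ≠ 0
        · by_cases hj : f j ≠ 0
          · rw [dif_pos hi, dif_pos hj]; exact hij ⟨i, hi⟩ ⟨j, hj⟩
          · have : f i * f j = 0 := by rw [not_not.1 hj, mul_zero]
            rw [this]; exact memAway_zero _
        · have : f i * f j = 0 := by rw [not_not.1 hi, zero_mul]
          rw [this]; exact memAway_zero _)
    refine ⟨c, hc, fun i => ?_⟩
    have := hc' i.1
    rwa [dif_pos i.2] at this

/-- `FunTriv` ascends along flat maps. -/
theorem FunTriv.of_flat [Module.Flat R R'] (φ : F →+* F')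
    (hφ : ∀ r, φ (algebraMap R F r) = algebraMap R' F' (algebraMap R R' r))
    {ι : Type*} [Finite ι] (f : ι → R) (hf : ∃ i, f i ≠ 0)
    (hfun : FunTriv R F f) : FunTriv R' F' (fun i => algebraMap R R' (f i)) := by
  obtain ⟨i, hi⟩ := hf
  have : Nonempty {i // f i ≠ 0} := ⟨⟨i, hi⟩⟩
  have h1 := FunTriv.of_flat_aux (R' := R') (F' := F') φ hφ (fun i : {i // f i ≠ 0} => f i.1)
    (fun i => i.2) ((funTriv_subtype_iff f).2 hfun)
  intro x hx
  exact h1 x fun i => hx i.1

/-- **T2**. Descent of `PicTriv` along a faithfully flat map to a local domain. -/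
theorem PicTriv.of_faithfullyFlat [IsLocalRing R'] [Module.FaithfullyFlat R R'] (φ : F →+* F')
    (hφ : ∀ r, φ (algebraMap R F r) = algebraMap R' F' (algebraMap R R' r))
    {ι : Type*} [Finite ι] (f : ι → R)
    (hfun : FunTriv R F f) (hpic : PicTriv R' F' (fun i => algebraMap R R' (f i))) :
    PicTriv R F f := by
  classical
  rw [← picTriv_subtype_iff]
  have inj : Function.Injective (algebraMap R F) := IsFractionRing.injective R F
  have inj' : Function.Injective (algebraMap R' F') := IsFractionRing.injective R' F'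
  have injR : Function.Injective (algebraMap R R') := by
    intro a b hab
    apply inj
    apply φ.injective
    rw [hφ, hφ, hab]
  have hpic' : PicTriv R' F' (fun i : {i // f i ≠ 0} => algebraMap R R' (f i.1)) := by
    intro h hh hij
    obtain ⟨c, hc, hc'⟩ := (picTriv_subtype_iff (R := R') (F := F')
      (fun i => algebraMap R R' (f i))).2 hpic
      (fun i => h ⟨i.1, fun h0 => i.2 (by rw [h0, map_zero])⟩) (fun i => hh _)
      (fun i j => hij ⟨i.1, fun h0 => i.2 (by rw [h0, map_zero])⟩
        ⟨j.1, fun h0 => j.2 (by rw [h0, map_zero])⟩)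
    exact ⟨c, hc, fun i => hc' ⟨i.1, fun h0 => i.2 (injR (by rw [h0, map_zero]))⟩⟩
  have hfun' := (funTriv_subtype_iff (F := F) f).2 hfun
  clear hpic hfun
  rcases isEmpty_or_nonempty {i // f i ≠ 0} with hem | hne
  · intro h hh hij
    exact ⟨1, one_ne_zero, fun i => (hem.false i).elim⟩
  generalize hJ : (fun i : {i // f i ≠ 0} => f i.1) = g at *
  have hg : ∀ i, g i ≠ 0 := fun i => by rw [← hJ]; exact i.2
  have hpic : PicTriv R' F' (fun i => algebraMap R R' (g i)) := by
    rw [← hJ]; exact hpic'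
  clear hpic' hJ
  have hfunR' : FunTriv R' F' (fun i => algebraMap R R' (g i)) :=
    FunTriv.of_flat_aux φ hφ g hg hfun'
  intro h hh hij
  obtain ⟨c, hc, hc'⟩ := hpic (fun i => φ (h i)) (fun i => by rw [Ne, map_eq_zero]; exact hh i)
    (fun i j => by
      have := (hij i j).map φ hφ
      rwa [map_mul, map_div₀] at this)
  obtain ⟨D, I, y, hD, hy, hyI, hI⟩ := exists_ideal_of_flat φ hφ g hg h hh c (fun i => (hc' i).1)
  have hDF : algebraMap R F D ≠ 0 := fun h0 => hD (inj (by rw [h0, map_zero]))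
  have hDF' : φ (algebraMap R F D) ≠ 0 := by rwa [Ne, map_eq_zero]
  have hy0 : y ≠ 0 := by
    rintro rfl
    rw [map_zero] at hy
    exact mul_ne_zero hDF' hc hy.symm
  -- every `z ∈ I` is a multiple of `y`
  have hz : ∀ z ∈ I, ∃ t : R', algebraMap R R' z = y * t := by
    intro z hz
    have h1 : ∀ i, MemAway R' F' (algebraMap R R' (g i))
        (φ (algebraMap R F z / algebraMap R F D) / c) := by
      intro i
      have h2 := ((hI z hz i).map φ hφ).mul (hc' i).2
      have h3 : φ (h i) ≠ 0 := by rw [Ne, map_eq_zero]; exact hh i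
      convert h2 using 1
      rw [map_mul]
      field_simp
    obtain ⟨t, ht⟩ := hfunR' _ h1
    refine ⟨t, inj' ?_⟩
    rw [map_mul, ht, hy, ← hφ, map_div₀]
    field_simp
  -- some `z ∈ I` is a unit times `y`
  obtain ⟨z, hzI, t, ht, hzt⟩ : ∃ z ∈ I, ∃ t : R', IsUnit t ∧ algebraMap R R' z = y * t := by
    by_contra hcon
    push Not at hcon
    have hle : I.map (algebraMap R R') ≤ Ideal.span {y} * IsLocalRing.maximalIdeal R' := by
      rw [Ideal.map_le_iff_le_comap]
      intro z hzI
      obtain ⟨t, ht⟩ := hz z hzI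
      rw [Ideal.mem_comap, ht]
      refine Ideal.mul_mem_mul (Ideal.mem_span_singleton_self _) ?_
      rw [IsLocalRing.mem_maximalIdeal]
      intro hu
      exact hcon z hzI t hu ht
    have h1 := hle hyI
    rw [Ideal.mem_span_singleton_mul] at h1
    obtain ⟨w, hw, hyw⟩ := h1
    have : w = 1 := mul_left_cancel₀ hy0 (by rw [hyw, mul_one])
    exact (IsLocalRing.maximalIdeal.isMaximal R').ne_top ((Ideal.eq_top_iff_one _).2 (this ▸ hw))
  have hz0 : z ≠ 0 := by
    rintro rfl
    rw [map_zero] at hzt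
    exact mul_ne_zero hy0 ht.ne_zero hzt.symm
  have hzF : algebraMap R F z ≠ 0 := fun h0 => hz0 (inj (by rw [h0, map_zero]))
  obtain ⟨t, rfl⟩ := ht
  refine ⟨algebraMap R F z / algebraMap R F D, div_ne_zero hzF hDF, fun i => ?_⟩
  have hφz : φ (algebraMap R F z / algebraMap R F D) = c * algebraMap R' F' ↑t := by
    rw [map_div₀, hφ z, hzt, map_mul, hy]
    field_simp
  have htu : algebraMap R' F' (↑t⁻¹ : R') = (algebraMap R' F' ↑t)⁻¹ := by
    apply eq_inv_of_mul_eq_one_left
    rw [← map_mul, Units.inv_mul, map_one]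
  refine ⟨hI z hzI i, MemAway.of_map φ hφ ?_⟩
  rw [map_inv₀, map_mul, hφz]
  have : (c * algebraMap R' F' ↑t * φ (h i))⁻¹ = (c * φ (h i))⁻¹ * algebraMap R' F' (↑t⁻¹ : R') := by
    rw [htu, ← mul_inv]
    congr 1
    ring
  rw [this]
  exact (hc' i).2.mul (memAway_algebraMap _ _)

end Flat

end Groth.Agent.Ega4dA.PicAlg
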