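import Groth.Agent.Ega4dA.PicAlg
import Mathlib.FieldTheory.Minpoly.IsIntegrallyClosed
import Mathlib.RingTheory.QuasiFinite.Basic
import Mathlib.RingTheory.Flat.Stability
import Mathlib.RingTheory.Flat.EquationalCriterion
import Mathlib.RingTheory.Flat.TorsionFree
import Mathlib.RingTheory.Ideal.Maximal
import Mathlib.RingTheory.Polynomial.Quotient

/-!
# Cartier divisors on relative curves with a Weierstrass polynomial

Abstract half of the elementary Ramanujam–Samuel argument: `R` is a domain, flat over `A[X]`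
(`A` a normal domain), `g ∈ R` is a unit times a monic polynomial and `A[X] → R/gR` is onto.  Then
every Cartier divisor on a finite union of `D(f i)` containing `D(g)` as a member is principal.
-/

set_option autoImplicit false
set_option linter.unusedSectionVars false

namespace Groth.Agent.Ega4dA.PicCurve

open Polynomial Groth.Agent.Ega4dA.PicAlg

section UnitAt

variable {R F : Type*} [CommRing R] [Field F] [Algebra R F]

/-- `x ∈ F` is a unit of `R_Q`. -/
def UnitAt (Q : Ideal R) (x : F) : Prop :=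
  ∃ a b : R, a ∉ Q ∧ b ∉ Q ∧ x = algebraMap R F a / algebraMap R F b

theorem UnitAt.mul {Q : Ideal R} [Q.IsPrime] {x y : F} (hx : UnitAt Q x) (hy : UnitAt Q y) :
    UnitAt Q (x * y) := by
  obtain ⟨a, b, ha, hb, rfl⟩ := hx
  obtain ⟨c, d, hc, hd, rfl⟩ := hy
  refine ⟨a * c, b * d, Ideal.IsPrime.mul_notMem ‹_› ha hc, Ideal.IsPrime.mul_notMem ‹_› hb hd, ?_⟩
  rw [map_mul, map_mul, div_mul_div_comm]

theorem UnitAt.inv {Q : Ideal R} {x : F} (hx : UnitAt Q x) : UnitAt Q x⁻¹ := by
  obtain ⟨a, b, ha, hb, rfl⟩ := hx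
  exact ⟨b, a, hb, ha, by rw [inv_div]⟩

theorem UnitAt.one {Q : Ideal R} [Q.IsPrime] : UnitAt Q (1 : F) :=
  ⟨1, 1, Ideal.one_notMem Q, Ideal.one_notMem Q, by simp⟩

theorem UnitAt.pow {Q : Ideal R} [Q.IsPrime] {x : F} (hx : UnitAt Q x) (n : ℕ) :
    UnitAt Q (x ^ n) := by
  induction n with
  | zero => simpa using UnitAt.one
  | succ n ih => rw [pow_succ]; exact ih.mul hx

theorem UnitAt.zpow {Q : Ideal R} [Q.IsPrime] {x : F} (hx : UnitAt Q x) (n : ℤ) :
    UnitAt Q (x ^ n) := by
  cases n with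
  | ofNat n => simpa using hx.pow n
  | negSucc n => rw [zpow_negSucc]; exact (hx.pow _).inv

theorem UnitAt.prod {Q : Ideal R} [Q.IsPrime] {κ : Type*} (s : Finset κ) (x : κ → F)
    (hx : ∀ i ∈ s, UnitAt Q (x i)) : UnitAt Q (∏ i ∈ s, x i) := by
  classical
  induction s using Finset.induction_on with
  | empty => simpa using UnitAt.one
  | insert a s ha ih =>
    rw [Finset.prod_insert ha]
    exact (hx a (Finset.mem_insert_self _ _)).mul
      (ih fun i hi => hx i (Finset.mem_insert_of_mem hi))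

theorem unitAt_algebraMap {Q : Ideal R} [Q.IsPrime] {a : R} (ha : a ∉ Q) :
    UnitAt Q (algebraMap R F a) :=
  ⟨a, 1, ha, Ideal.one_notMem Q, by simp⟩

theorem unitAt_of_memAway [IsDomain R] [IsFractionRing R F] {Q : Ideal R} [Q.IsPrime] {f : R}
    (hf : f ∉ Q) {x : F} (hx0 : x ≠ 0)
    (h1 : MemAway R F f x) (h2 : MemAway R F f x⁻¹) : UnitAt Q x := by
  obtain ⟨k, a, ha⟩ := h1
  obtain ⟨l, b, hb⟩ := h2
  have inj : Function.Injective (algebraMap R F) := IsFractionRing.injective R F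
  have hf0 : f ≠ 0 := by rintro rfl; exact hf Q.zero_mem
  have hfF : algebraMap R F f ≠ 0 := fun h0 => hf0 (inj (by rw [h0, map_zero]))
  have hab : a * b = f ^ (k + l) := by
    apply inj
    rw [map_mul, ← ha, ← hb, map_pow, pow_add]
    field_simp
  have haQ : a ∉ Q := by
    intro haQ
    have : f ^ (k + l) ∈ Q := hab ▸ Ideal.mul_mem_right _ _ haQ
    exact hf (Ideal.IsPrime.mem_of_pow_mem ‹_› _ this)
  refine ⟨a, f ^ k, haQ, fun h => hf (Ideal.IsPrime.mem_of_pow_mem ‹_› _ h), ?_⟩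
  rw [← ha, map_pow]
  field_simp

end UnitAt

section Denominators

variable {A R F : Type*} [CommRing A] [IsDomain A] [CommRing R] [Algebra A R] [Field F] [Algebra R F]

/-- An element of `F` lying in all `R_Q`, `Q` a prime over `0 ⊆ A` not containing `t`, lies in
`R[1/(a t)]` for some nonzero `a ∈ A`. -/
theorem exists_mul_mem (x : F) (t : R)
    (H : ∀ Q : Ideal R, Q.IsPrime → Q.comap (algebraMap A R) = ⊥ → t ∉ Q →
      ∃ b ∉ Q, ∃ a, algebraMap R F b * x = algebraMap R F a) :
    ∃ a : A, a ≠ 0 ∧ ∃ (k : ℕ) (r : R),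
      algebraMap R F (algebraMap A R a * t ^ k) * x = algebraMap R F r := by
  classical
  let I : Ideal R :=
    { carrier := {s | ∃ r, algebraMap R F s * x = algebraMap R F r}
      add_mem' := by
        rintro s s' ⟨r, hr⟩ ⟨r', hr'⟩
        exact ⟨r + r', by rw [map_add, map_add, add_mul, hr, hr']⟩
      zero_mem' := ⟨0, by simp⟩
      smul_mem' := by
        rintro c s ⟨r, hr⟩
        exact ⟨c * r, by rw [smul_eq_mul, map_mul, map_mul, mul_assoc, hr]⟩ }
  let M : Submonoid R := (nonZeroDivisors A).map (algebraMap A R) ⊔ Submonoid.powers t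
  by_contra hcon
  push Not at hcon
  have hdisj : Disjoint (I : Set R) (M : Set R) := by
    rw [Set.disjoint_left]
    rintro s ⟨r, hr⟩ hsM
    obtain ⟨y, hy, z, hz, rfl⟩ := Submonoid.mem_sup.1 hsM
    obtain ⟨a, ha, rfl⟩ := hy
    obtain ⟨k, rfl⟩ := hz
    exact hcon a (nonZeroDivisors.ne_zero ha) k r hr
  obtain ⟨Q, hQ, hIQ, hQM⟩ := Ideal.exists_le_prime_disjoint I M hdisj
  rw [Set.disjoint_left] at hQM
  have h1 : Q.comap (algebraMap A R) = ⊥ := by
    rw [eq_bot_iff]
    intro a ha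
    by_contra ha0
    exact hQM (Ideal.mem_comap.1 ha) (Submonoid.mem_sup_left
      ⟨a, mem_nonZeroDivisors_of_ne_zero ha0, rfl⟩)
  have h2 : t ∉ Q := fun ht => hQM ht (Submonoid.mem_sup_right (Submonoid.mem_powers t))
  obtain ⟨b, hb, a, hab⟩ := H Q hQ h1 h2
  exact hb (hIQ ⟨a, hab⟩)

end Denominators

section Main

variable {A R F : Type*} [CommRing A] [IsDomain A] [IsIntegrallyClosed A]
  [CommRing R] [IsDomain R] [Algebra A R] [Algebra A[X] R] [IsScalarTower A A[X] R]

/-- Divisibility by constants cancels monic polynomials. -/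
theorem C_dvd_of_dvd_mul {a : A} {W P : A[X]} (hW : W.Monic) (h : C a ∣ W * P) : C a ∣ P := by
  rw [C_dvd_iff_dvd_coeff] at h ⊢
  intro n
  rw [← Ideal.mem_span_singleton, ← Ideal.Quotient.eq_zero_iff_mem] 
  have h1 : W.map (Ideal.Quotient.mk (Ideal.span {a})) * P.map (Ideal.Quotient.mk (Ideal.span {a})) = 0 := by
    rw [← Polynomial.map_mul]
    ext n
    rw [coeff_map, coeff_zero, Ideal.Quotient.eq_zero_iff_mem, Ideal.mem_span_singleton]
    exact h n
  have h2 := (hW.map (Ideal.Quotient.mk (Ideal.span {a}))).mul_right_eq_zero_iff.1 h1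
  have := congrArg (fun p => p.coeff n) h2
  simpa using this

/-- If `s` is a nonzerodivisor on `S / xS` and `T` is flat over `S`, then `s` is a nonzerodivisor on
`T / xT`. -/
theorem dvd_of_dvd_mul_of_flat {S : Type*} [CommRing S] {T : Type*} [CommRing T] [Algebra S T]
    [Module.Flat S T] {x s : S} (hs : ∀ b, x ∣ s * b → x ∣ b) {y : T}
    (h : algebraMap S T x ∣ algebraMap S T s * y) : algebraMap S T x ∣ y := by
  obtain ⟨z, hz⟩ := h
  let f : Fin 2 → S := ![s, -x]
  let g : Fin 2 → T := ![y, z]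
  have hfg : ∑ i, f i • g i = 0 := by
    simp [f, g, Fin.sum_univ_two, Algebra.smul_def, hz]
  obtain ⟨k, a, w, hw, ha⟩ := Module.Flat.isTrivialRelation_of_sum_smul_eq_zero hfg
  have hy : y = ∑ j, a 0 j • w j := hw 0
  rw [hy]
  refine Finset.dvd_sum fun j _ => ?_
  have h0 := ha j
  simp only [f, Fin.sum_univ_two, Matrix.cons_val_zero, Matrix.cons_val_one, neg_mul] at h0
  obtain ⟨d, hd⟩ := hs (a 0 j) ⟨a 1 j, by linear_combination h0⟩
  rw [hd, Algebra.smul_def, map_mul, mul_assoc]
  exact Dvd.intro _ rfl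

/-- Divisibility by constants cancels monic polynomials, in a flat `A[X]`-algebra. -/
theorem dvd_of_dvd_mul [Module.Flat A[X] R] {a : A} {W : A[X]} (hW : W.Monic) {y : R}
    (h : algebraMap A R a ∣ algebraMap A[X] R W * y) : algebraMap A R a ∣ y := by
  have h1 : algebraMap A R a = algebraMap A[X] R (C a) :=
    IsScalarTower.algebraMap_apply A A[X] R a
  rw [h1] at h ⊢
  exact dvd_of_dvd_mul_of_flat (fun b hb => C_dvd_of_dvd_mul hW hb) h

/-- Primes over `0 ⊆ A` containing `g` are generated by monic divisors of `W`. -/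
theorem exists_monic_of_prime {g : R} {W : A[X]} (hW : W.Monic) {v : R} (hv : IsUnit v)
    (hWg : algebraMap A[X] R W = v * g)
    (hsurj : ∀ y : R, ∃ P : A[X], g ∣ y - algebraMap A[X] R P)
    (Q : Ideal R) [Q.IsPrime] (hQ : Q.comap (algebraMap A R) = ⊥) (hg : g ∈ Q) :
    ∃ f : A[X], f.Monic ∧ f ∣ W ∧ Q = Ideal.span {algebraMap A[X] R f} := by
  let x : R ⧸ Q := Ideal.Quotient.mk Q (algebraMap A[X] R X)
  have hx : ∀ P : A[X], aeval x P = Ideal.Quotient.mk Q (algebraMap A[X] R P) := by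
    intro P
    let φ : A[X] →ₐ[A] R ⧸ Q := (Ideal.Quotient.mkₐ A Q).comp (IsScalarTower.toAlgHom A A[X] R)
    have : aeval x = φ := by
      apply Polynomial.algHom_ext
      simp [φ, x]
    rw [this]
    rfl
  have hinj : Function.Injective (algebraMap A (R ⧸ Q)) := by
    rw [injective_iff_map_eq_zero]
    intro a ha
    have h1 : algebraMap A R a ∈ Q := by
      rw [← Ideal.Quotient.eq_zero_iff_mem]
      exact ha
    have h2 : a ∈ Q.comap (algebraMap A R) := h1
    rw [hQ] at h2
    exact h2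
  have hFS : FaithfulSMul A (R ⧸ Q) := (faithfulSMul_iff_algebraMap_injective A (R ⧸ Q)).2 hinj
  have hWQ : aeval x W = 0 := by
    rw [hx, Ideal.Quotient.eq_zero_iff_mem, hWg]
    exact Ideal.mul_mem_left _ _ hg
  have hint : IsIntegral A x := ⟨W, hW, by rw [← aeval_def]; exact hWQ⟩
  have hdvd : minpoly A x ∣ W := minpoly.isIntegrallyClosed_dvd hint hWQ
  refine ⟨minpoly A x, minpoly.monic hint, hdvd, le_antisymm ?_ ?_⟩
  · intro y hy
    obtain ⟨P, hP⟩ := hsurj y
    have hgP : algebraMap A[X] R P ∈ Q := by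
      obtain ⟨z, hz⟩ := hP
      have : algebraMap A[X] R P = y - g * z := by rw [← hz]; ring
      rw [this]
      exact Q.sub_mem hy (Q.mul_mem_right _ hg)
    have h3 : minpoly A x ∣ P := minpoly.isIntegrallyClosed_dvd hint (by
      rw [hx, Ideal.Quotient.eq_zero_iff_mem]; exact hgP)
    have h4 : algebraMap A[X] R (minpoly A x) ∣ g := by
      have : algebraMap A[X] R (minpoly A x) ∣ v * g := hWg ▸ map_dvd _ hdvd
      exact (hv.dvd_mul_left).1 this
    rw [Ideal.mem_span_singleton]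
    have : y = (y - algebraMap A[X] R P) + algebraMap A[X] R P := by ring
    rw [this]
    exact dvd_add (h4.trans hP) (map_dvd _ h3)
  · rw [Ideal.span_singleton_le_iff_mem, ← Ideal.Quotient.eq_zero_iff_mem, ← hx, minpoly.aeval]

/-- There are only finitely many primes over `0 ⊆ A` containing `g`. -/
theorem finite_primes {g : R} {W : A[X]} (hW : W.Monic) {v : R}
    (hWg : algebraMap A[X] R W = v * g)
    (hsurj : ∀ y : R, ∃ P : A[X], g ∣ y - algebraMap A[X] R P) :
    {Q : Ideal R | Q.IsPrime ∧ Q.comap (algebraMap A R) = ⊥ ∧ g ∈ Q}.Finite := by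
  let D := R ⧸ Ideal.span {g}
  have hfin : Module.Finite A D := by
    have h1 : Module.Finite A (AdjoinRoot W) := hW.finite_adjoinRoot
    let φ : AdjoinRoot W →ₐ[A] D := AdjoinRoot.liftAlgHom W (Algebra.ofId A D)
      (Ideal.Quotient.mk _ (algebraMap A[X] R X)) (by
        have : ∀ P : A[X], eval₂ (Algebra.ofId A D : A →+* D)
            (Ideal.Quotient.mk (Ideal.span {g}) (algebraMap A[X] R X)) P =
            Ideal.Quotient.mk (Ideal.span {g}) (algebraMap A[X] R P) := by
          intro P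
          let ψ : A[X] →ₐ[A] D :=
            (Ideal.Quotient.mkₐ A (Ideal.span {g})).comp (IsScalarTower.toAlgHom A A[X] R)
          have h2 : aeval (Ideal.Quotient.mk (Ideal.span {g}) (algebraMap A[X] R X)) = ψ := by
            apply Polynomial.algHom_ext
            simp [ψ]
          have h3 := congrArg (fun χ : A[X] →ₐ[A] D => χ P) h2
          exact h3
        rw [this, hWg, Ideal.Quotient.eq_zero_iff_mem]
        exact Ideal.mul_mem_left _ _ (Ideal.mem_span_singleton_self g))
    refine Module.Finite.of_surjective φ.toLinearMap ?_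
    intro y
    obtain ⟨y, rfl⟩ := Ideal.Quotient.mk_surjective y
    obtain ⟨P, hP⟩ := hsurj y
    refine ⟨AdjoinRoot.mk W P, ?_⟩
    have h4 : φ (AdjoinRoot.mk W P) = Ideal.Quotient.mk (Ideal.span {g}) (algebraMap A[X] R P) := by
      have h5 : (φ.comp (AdjoinRoot.mkₐ W)) =
          (Ideal.Quotient.mkₐ A (Ideal.span {g})).comp (IsScalarTower.toAlgHom A A[X] R) := by
        apply Polynomial.algHom_ext
        simp [φ]
      exact congrArg (fun χ : A[X] →ₐ[A] D => χ P) h5
    change φ (AdjoinRoot.mk W P) = _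
    rw [h4]
    refine (Ideal.Quotient.eq.2 ?_).symm
    rw [Ideal.mem_span_singleton]
    exact hP
  have hfin2 : ((⊥ : Ideal A).primesOver D).Finite := Algebra.QuasiFinite.finite_primesOver _
  refine (hfin2.image (fun P => P.comap (Ideal.Quotient.mk (Ideal.span {g})))).subset ?_
  rintro Q ⟨hQ, hQ0, hgQ⟩
  have hle : Ideal.span {g} ≤ Q := (Ideal.span_singleton_le_iff_mem _).2 hgQ
  have hcm : (Q.map (Ideal.Quotient.mk (Ideal.span {g}))).comap
      (Ideal.Quotient.mk (Ideal.span {g})) = Q := by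
    rw [Ideal.comap_map_of_surjective _ Ideal.Quotient.mk_surjective, ← RingHom.ker_eq_comap_bot,
      Ideal.mk_ker, sup_eq_left.2 hle]
  refine ⟨Q.map (Ideal.Quotient.mk _), ⟨Ideal.map_isPrime_of_surjective
    Ideal.Quotient.mk_surjective (by rwa [Ideal.mk_ker]), ⟨?_⟩⟩, hcm⟩
  rw [← hQ0]
  conv_lhs => rw [← hcm]
  rw [Ideal.comap_comap]
  rfl

/-- Membership in `R[1/t]` can be checked at `R_Q` (`Q` over `0`) and on `D(t g)`. -/
theorem memAway_of_both [Module.Flat A[X] R] [Field F] [Algebra R F] [IsFractionRing R F]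
    (hAR : Function.Injective (algebraMap A R))
    {g : R} {W : A[X]} (hW : W.Monic) {v : R} (hv : IsUnit v)
    (hWg : algebraMap A[X] R W = v * g) (x : F) (t : R)
    (H1 : ∀ Q : Ideal R, Q.IsPrime → Q.comap (algebraMap A R) = ⊥ → t ∉ Q →
      ∃ b ∉ Q, ∃ a, algebraMap R F b * x = algebraMap R F a)
    (H2 : MemAway R F (t * g) x) : MemAway R F t x := by
  obtain ⟨a, ha, k, r, hr⟩ := exists_mul_mem x t H1
  obtain ⟨l, r', hr'⟩ := H2
  have inj : Function.Injective (algebraMap R F) := IsFractionRing.injective R F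
  have ha0 : algebraMap A R a ≠ 0 := fun h0 => ha (hAR (by rw [h0, map_zero]))
  have haF : algebraMap R F (algebraMap A R a) ≠ 0 := fun h0 => ha0 (inj (by rw [h0, map_zero]))
  have h1 : g ^ l * (t ^ l * r) = algebraMap A R a * (t ^ k * r') := by
    apply inj
    simp only [map_mul, map_pow] at hr hr' ⊢
    rw [← hr, ← hr']
    ring
  have h2 : ∀ (m : ℕ) (y : R), algebraMap A R a ∣ g ^ m * y → algebraMap A R a ∣ y := by
    intro m
    induction m with
    | zero => intro y hy; simpa using hy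
    | succ m ih =>
      intro y hy
      apply ih
      apply dvd_of_dvd_mul hW
      rw [hWg]
      have : v * g * (g ^ m * y) = v * (g ^ (m + 1) * y) := by ring
      rw [this]
      exact Dvd.dvd.mul_left hy v
  obtain ⟨s, hs⟩ := h2 l (t ^ l * r) ⟨_, h1⟩
  refine ⟨l + k, s, ?_⟩
  apply mul_left_cancel₀ haF
  rw [← map_mul (algebraMap R F), ← hs, map_mul, ← hr]
  simp only [map_mul, map_pow]
  ring

/-- **Main theorem** (abstract form). -/
theorem picTriv_of_weierstrass [Module.Flat A[X] R] [Field F] [Algebra R F] [IsFractionRing R F]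
    (hAR : Function.Injective (algebraMap A R))
    {g : R} {W : A[X]} (hW : W.Monic) {v : R} (hv : IsUnit v)
    (hWg : algebraMap A[X] R W = v * g)
    (hsurj : ∀ y : R, ∃ P : A[X], g ∣ y - algebraMap A[X] R P)
    (hord : ∀ (Q : Ideal R), Q.IsPrime → Q.comap (algebraMap A R) = ⊥ → ∀ f : R,
      Q = Ideal.span {f} → ∀ a : R, a ≠ 0 → ∃ (n : ℕ) (b : R), b ∉ Q ∧ a = f ^ n * b)
    {ι : Type*} [Finite ι] (f : ι → R) (i0 : ι) (hi0 : f i0 = g) : PicTriv R F f := by
  classical
  intro h hh hij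
  have inj : Function.Injective (algebraMap R F) := IsFractionRing.injective R F
  have hF : ∀ {r : R}, r ≠ 0 → algebraMap R F r ≠ 0 := fun hr h0 => hr (inj (by rw [h0, map_zero]))
  -- the finite set of bad primes
  have hfin := finite_primes (R := R) hW hWg hsurj
  let S : Finset (Ideal R) := hfin.toFinset
  have hS : ∀ Q, Q ∈ S ↔ Q.IsPrime ∧ Q.comap (algebraMap A R) = ⊥ ∧ g ∈ Q := by
    intro Q
    simp only [S, Set.Finite.mem_toFinset, Set.mem_ofPred_eq]
  -- generators
  have hgen : ∀ Q : Ideal R, ∃ p : R, Q ∈ S → (Q = Ideal.span {p} ∧ p ∣ g) := by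
    intro Q
    by_cases hQ : Q ∈ S
    · obtain ⟨hQ1, hQ2, hQ3⟩ := (hS Q).1 hQ
      obtain ⟨p, hp1, hp2, hp3⟩ := exists_monic_of_prime hW hv hWg hsurj Q hQ2 hQ3
      refine ⟨algebraMap A[X] R p, fun _ => ⟨hp3, ?_⟩⟩
      have : algebraMap A[X] R p ∣ v * g := hWg ▸ map_dvd _ hp2
      exact (hv.dvd_mul_left).1 this
    · exact ⟨0, fun h => absurd h hQ⟩
  choose p hp using hgen
  -- orders
  have hordF : ∀ Q ∈ S, ∀ x : F, x ≠ 0 → ∃ n : ℤ, UnitAt Q (x * algebraMap R F (p Q) ^ n) := by
    intro Q hQ x hx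
    obtain ⟨hQ1, hQ2, hQ3⟩ := (hS Q).1 hQ
    obtain ⟨a, b, hb, rfl⟩ := IsFractionRing.div_surjective (A := R) x
    have hb0 : b ≠ 0 := nonZeroDivisors.ne_zero hb
    have ha0 : a ≠ 0 := by rintro rfl; apply hx; simp
    obtain ⟨n, a', ha', haa'⟩ := hord Q hQ1 hQ2 (p Q) (hp Q hQ).1 a ha0
    obtain ⟨m, b', hb', hbb'⟩ := hord Q hQ1 hQ2 (p Q) (hp Q hQ).1 b hb0
    have hp0 : algebraMap R F (p Q) ≠ 0 ∨ (n = 0 ∧ m = 0) := by
      by_cases h0 : p Q = 0
      · right
        constructor
        · by_contra hn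
          apply ha0
          rw [haa', h0, zero_pow hn, zero_mul]
        · by_contra hm
          apply hb0
          rw [hbb', h0, zero_pow hm, zero_mul]
      · left; exact hF h0
    have ha'F : algebraMap R F a' ≠ 0 := hF (by rintro rfl; exact ha' Q.zero_mem)
    have hb'F : algebraMap R F b' ≠ 0 := hF (by rintro rfl; exact hb' Q.zero_mem)
    refine ⟨(m : ℤ) - n, a', b', ha', hb', ?_⟩
    rcases hp0 with hp0 | ⟨rfl, rfl⟩
    · rw [haa', hbb', map_mul, map_mul, map_pow, map_pow, zpow_sub₀ hp0, zpow_natCast, zpow_natCast]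
      field_simp
    · rw [haa', hbb']
      simp
  -- unit property of quotients
  have hunit : ∀ (Q : Ideal R), Q.IsPrime → ∀ i j, f i ∉ Q → f j ∉ Q → UnitAt Q (h i / h j) := by
    intro Q hQ i j hi hj
    refine unitAt_of_memAway (f := f i * f j) (hQ.mul_notMem hi hj) (div_ne_zero (hh i) (hh j))
      (hij i j) ?_
    rw [inv_div, mul_comm]
    exact hij j i
  -- exponents
  have hexp : ∀ Q : Ideal R, ∃ n : ℤ, Q ∈ S → ∀ i, f i ∉ Q →
      UnitAt Q (h i / h i0 * algebraMap R F (p Q) ^ n) := by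
    intro Q
    by_cases hQ : Q ∈ S
    · by_cases hex : ∃ i, f i ∉ Q
      · obtain ⟨i, hi⟩ := hex
        obtain ⟨n, hn⟩ := hordF Q hQ (h i / h i0) (div_ne_zero (hh i) (hh i0))
        refine ⟨n, fun _ j hj => ?_⟩
        have := ((hS Q).1 hQ).1
        have h1 := (hunit Q this j i hj hi).mul hn
        convert h1 using 1
        have := hh i
        have := hh i0
        field_simp
      · push Not at hex
        exact ⟨0, fun _ i hi => absurd (hex i) hi⟩
    · exact ⟨0, fun h => absurd h hQ⟩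
  choose n hn using hexp
  let c : F := (h i0)⁻¹ * ∏ Q ∈ S, algebraMap R F (p Q) ^ n Q
  have hg0 : g ≠ 0 := by
    rintro rfl
    rw [mul_zero] at hWg
    have h1 := Module.Flat.isSMulRegular_of_nonZeroDivisors (M := R)
      (mem_nonZeroDivisors_of_ne_zero hW.ne_zero)
    have h2 : (1 : R) = 0 := by
      apply h1
      simp only [Algebra.smul_def, hWg, zero_mul]
    exact one_ne_zero h2
  have hp0 : ∀ Q ∈ S, p Q ≠ 0 := by
    intro Q hQ h0
    obtain ⟨s, hs⟩ := (hp Q hQ).2
    exact hg0 (by rw [hs, h0, zero_mul])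
  have hpF : ∀ Q ∈ S, algebraMap R F (p Q) ≠ 0 := fun Q hQ => hF (hp0 Q hQ)
  have hc : c ≠ 0 := mul_ne_zero (inv_ne_zero (hh i0))
    (Finset.prod_ne_zero_iff.2 fun Q hQ => zpow_ne_zero _ (hpF Q hQ))
  have hci : ∀ i, c * h i = h i / h i0 * ∏ Q ∈ S, algebraMap R F (p Q) ^ n Q := by
    intro i
    simp only [c]
    ring
  -- Claim A
  have hA : ∀ (Q : Ideal R), Q.IsPrime → Q.comap (algebraMap A R) = ⊥ → ∀ i, f i ∉ Q →
      UnitAt Q (c * h i) := by
    intro Q hQ hQ0 i hi
    rw [hci]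
    by_cases hgQ : g ∈ Q
    · have hQS : Q ∈ S := (hS Q).2 ⟨hQ, hQ0, hgQ⟩
      rw [← Finset.mul_prod_erase _ _ hQS, ← mul_assoc]
      refine (hn Q hQS i hi).mul (UnitAt.prod _ _ fun Q' hQ' => (unitAt_algebraMap ?_).zpow _)
      obtain ⟨hne, hQ'S⟩ := Finset.mem_erase.1 hQ'
      intro hmem
      apply hne
      have hQ'P : Q'.IsPrime := ((hS Q').1 hQ'S).1
      have e1 := (hp Q hQS).1
      have e2 := (hp Q' hQ'S).1
      rw [e1, Ideal.mem_span_singleton] at hmem
      obtain ⟨s, hs⟩ := hmem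
      have hmem' : p Q * s ∈ Q' := by
        rw [← hs]
        exact (Ideal.ext_iff.1 e2 (p Q')).2 (Ideal.mem_span_singleton_self _)
      rcases hQ'P.mem_or_mem hmem' with hm | hm
      · apply le_antisymm
        · rw [e1, e2, Ideal.span_singleton_le_span_singleton]
          exact ⟨s, hs⟩
        · rw [e1, Ideal.span_singleton_le_iff_mem]
          exact hm
      · exfalso
        rw [e2, Ideal.mem_span_singleton] at hm
        obtain ⟨t, ht⟩ := hm
        have h1 : p Q * t = 1 := by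
          apply mul_left_cancel₀ (hp0 Q' hQ'S)
          rw [mul_one]
          conv_rhs => rw [hs, ht]
          ring
        apply hQ.ne_top
        rw [Ideal.eq_top_iff_one, ← h1]
        exact Ideal.mul_mem_right _ _ ((Ideal.ext_iff.1 e1 (p Q)).2 (Ideal.mem_span_singleton_self _))
    · refine (hunit Q hQ i i0 hi (hi0 ▸ hgQ)).mul
        (UnitAt.prod _ _ fun Q' hQ' => (unitAt_algebraMap ?_).zpow _)
      intro hmem
      obtain ⟨s, hs⟩ := (hp Q' hQ').2
      exact hgQ (hs ▸ Ideal.mul_mem_right _ _ hmem)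
  -- Claim B
  have hprod : ∀ (e : Ideal R → ℤ), MemAway R F g (∏ Q ∈ S, algebraMap R F (p Q) ^ e Q) := by
    intro e
    have hz : ∀ Q ∈ S, MemAway R F g (algebraMap R F (p Q) ^ e Q) := by
      intro Q hQ
      cases e Q with
      | ofNat m =>
        simp only [Int.ofNat_eq_natCast, zpow_natCast]
        exact (memAway_algebraMap g (p Q)).pow m
      | negSucc m =>
        rw [zpow_negSucc, ← inv_pow]
        refine (memAway_inv_self 1 ?_ (hF hg0)).pow _
        rw [pow_one]
        exact (hp Q hQ).2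
    have : ∀ T : Finset (Ideal R), T ⊆ S →
        MemAway R F g (∏ Q ∈ T, algebraMap R F (p Q) ^ e Q) := by
      intro T
      induction T using Finset.induction_on with
      | empty => intro _; simpa using memAway_algebraMap (F := F) g 1
      | insert a T ha ih =>
        intro hT
        rw [Finset.prod_insert ha]
        exact (hz a (hT (Finset.mem_insert_self _ _))).mul
          (ih ((Finset.subset_insert _ _).trans hT))
    exact this S subset_rfl
  have hB1 : ∀ i, MemAway R F (f i * g) (c * h i) := by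
    intro i
    rw [hci]
    exact (hi0 ▸ hij i i0).mul ((hprod n).mul_left _)
  have hB2 : ∀ i, MemAway R F (f i * g) (c * h i)⁻¹ := by
    intro i
    rw [hci, mul_inv, inv_div, ← Finset.prod_inv_distrib]
    have h1 : MemAway R F (f i * g) (h i0 / h i) := by
      rw [mul_comm]; exact hi0 ▸ hij i0 i
    refine h1.mul (MemAway.mul_left _ ?_)
    have h2 := hprod (fun Q => - n Q)
    convert h2 using 1
    exact Finset.prod_congr rfl fun Q _ => (zpow_neg _ _).symm
  have hmem : ∀ (Q : Ideal R) (x : F), UnitAt Q x →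
      ∃ b ∉ Q, ∃ a, algebraMap R F b * x = algebraMap R F a := by
    rintro Q x ⟨a, b, ha, hb, rfl⟩
    refine ⟨b, hb, a, ?_⟩
    have : algebraMap R F b ≠ 0 := hF (by rintro rfl; exact hb Q.zero_mem)
    field_simp
  refine ⟨c, hc, fun i => ⟨?_, ?_⟩⟩
  · exact memAway_of_both hAR hW hv hWg _ _ (fun Q hQ hQ0 hi => hmem Q _ (hA Q hQ hQ0 i hi)) (hB1 i)
  · exact memAway_of_both hAR hW hv hWg _ _
      (fun Q hQ hQ0 hi => hmem Q _ (hA Q hQ hQ0 i hi).inv) (hB2 i)

end Main

end Groth.Agent.Ega4dA.PicCurve
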