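import Groth.Agent.Ega4dA.PicCurve
import Groth.Agent.Hensel.LocalSplit
import Mathlib.RingTheory.Unramified.LocalRing
import Mathlib.RingTheory.Etale.Basic
import Mathlib.RingTheory.Flat.FaithfullyFlat.Algebra
import Mathlib.RingTheory.Smooth.Flat
import Mathlib.RingTheory.Filtration

/-!
# Weierstrass preparation on étale neighbourhoods of the affine line over a henselian ring
-/

set_option autoImplicit false
set_option linter.unusedSectionVars false

universe u

namespace Groth.Agent.Ega4dA.PicHensel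

open Polynomial IsLocalRing Groth.Agent.Ega4dA.PicAlg Groth.Agent.Ega4dA.PicCurve

section Poly

variable {A : Type*} [CommRing A] [IsLocalRing A]

theorem mem_map_C_iff (x : A[X]) :
    x ∈ (maximalIdeal A).map (C : A →+* A[X]) ↔ x.map (residue A) = 0 := by
  have h := Polynomial.ker_mapRingHom (residue A)
  rw [ker_residue] at h
  rw [← h, RingHom.mem_ker, coe_mapRingHom]

/-- A prime of `A[X]` strictly containing `m A[X]` is generated by `m` and a monic polynomial with
irreducible reduction. -/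
theorem exists_monic_generator (q₀ : Ideal A[X]) [q₀.IsPrime]
    (hle : (maximalIdeal A).map (C : A →+* A[X]) ≤ q₀)
    (hne : q₀ ≠ (maximalIdeal A).map (C : A →+* A[X])) :
    ∃ φ : A[X], φ.Monic ∧ Prime (φ.map (residue A)) ∧ φ ∈ q₀ ∧
      q₀ = (maximalIdeal A).map C ⊔ Ideal.span {φ} := by
  let π : A[X] →+* (ResidueField A)[X] := mapRingHom (residue A)
  have hπ : Function.Surjective π := map_surjective _ residue_surjective
  have hker : RingHom.ker π = (maximalIdeal A).map C := by
    have h := Polynomial.ker_mapRingHom (residue A)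
    rwa [ker_residue] at h
  have hkq : RingHom.ker π ≤ q₀ := hker ▸ hle
  have hcm : (q₀.map π).comap π = q₀ := by
    rw [Ideal.comap_map_of_surjective π hπ, ← RingHom.ker_eq_comap_bot, sup_eq_left.2 hkq]
  have hprime : (q₀.map π).IsPrime := Ideal.map_isPrime_of_surjective hπ hkq
  obtain ⟨p, hp⟩ := (inferInstance : (q₀.map π).IsPrincipal)
  have hp' : q₀.map π = Ideal.span {p} := hp
  have hp0 : p ≠ 0 := by
    rintro rfl
    apply hne
    rw [← hcm, hp', Ideal.span_singleton_eq_bot.2 rfl, ← RingHom.ker_eq_comap_bot, hker]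
  let p' := p * C (p.leadingCoeff⁻¹)
  have hp'm : p'.Monic := monic_mul_leadingCoeff_inv hp0
  have hspan : q₀.map π = Ideal.span {p'} := by
    rw [hp']
    symm
    apply Ideal.span_singleton_mul_right_unit
    rw [isUnit_C]
    exact (inv_ne_zero (leadingCoeff_ne_zero.2 hp0)).isUnit
  have hp'p : Prime p' := by
    rw [hspan] at hprime
    exact (Ideal.span_singleton_prime hp'm.ne_zero).1 hprime
  obtain ⟨φ, hφ1, hφ2, hφ3⟩ := lifts_and_degree_eq_and_monic (f := residue A)
    (p := p') (by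
      rw [mem_lifts]
      exact hπ p') hp'm
  have hφq : φ ∈ q₀ := by
    rw [← hcm, Ideal.mem_comap, hspan]
    change φ.map (residue A) ∈ _
    rw [hφ1]
    exact Ideal.mem_span_singleton_self _
  refine ⟨φ, hφ3, by rw [hφ1]; exact hp'p, hφq, le_antisymm ?_
    (sup_le hle ((Ideal.span_singleton_le_iff_mem _).2 hφq))⟩
  intro x hx
  have hx' : π x ∈ q₀.map π := Ideal.mem_map_of_mem _ hx
  rw [hspan, Ideal.mem_span_singleton] at hx'
  obtain ⟨t', ht'⟩ := hx'
  obtain ⟨t, rfl⟩ := hπ t'
  have h1 : x - φ * t ∈ (maximalIdeal A).map (C : A →+* A[X]) := by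
    rw [← hker, RingHom.mem_ker, map_sub, map_mul, ht', ← hφ1]
    change _ - φ.map (residue A) * _ = 0
    exact sub_self _
  have : x = (x - φ * t) + φ * t := by ring
  rw [this]
  exact Ideal.add_mem _ (Ideal.mem_sup_left h1)
    (Ideal.mem_sup_right (Ideal.mul_mem_right _ _ (Ideal.mem_span_singleton_self φ)))

end Poly

section Abstract

variable {A R : Type*} [CommRing A] [IsLocalRing A] [CommRing R] [IsLocalRing R] [Algebra A R]
  [Algebra A[X] R] [IsScalarTower A A[X] R] {φ : A[X]}

/-- Approximation of elements of `R` by polynomials. -/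
theorem exists_poly (hm : maximalIdeal R = (maximalIdeal A).map (algebraMap A R) ⊔
      Ideal.span {algebraMap A[X] R φ})
    (hres : ∀ y : R, ∃ P : A[X], y - algebraMap A[X] R P ∈ maximalIdeal R) (j : ℕ) (y : R) :
    ∃ P : A[X], y - algebraMap A[X] R P ∈ (maximalIdeal A).map (algebraMap A R) ⊔
      Ideal.span {algebraMap A[X] R φ ^ j} := by
  induction j with
  | zero => exact ⟨0, by simp⟩
  | succ j ih =>
    obtain ⟨P, hP⟩ := ih
    obtain ⟨μ, hμ, z', hz', hP'⟩ := Submodule.mem_sup.1 hP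
    obtain ⟨z, rfl⟩ := Ideal.mem_span_singleton.1 hz'
    obtain ⟨Q, hQ⟩ := hres z
    rw [hm] at hQ
    obtain ⟨μ', hμ', t', ht', hQ'⟩ := Submodule.mem_sup.1 hQ
    obtain ⟨t, rfl⟩ := Ideal.mem_span_singleton.1 ht'
    refine ⟨P + φ ^ j * Q, ?_⟩
    have : y - algebraMap A[X] R (P + φ ^ j * Q) =
        (μ + algebraMap A[X] R φ ^ j * μ') + algebraMap A[X] R φ ^ (j + 1) * t := by
      rw [map_add, map_mul, map_pow]
      linear_combination (-1 : R) * hP' - algebraMap A[X] R φ ^ j * hQ'
    rw [this]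
    exact Ideal.add_mem _ (Ideal.mem_sup_left (Ideal.add_mem _ hμ (Ideal.mul_mem_left _ _ hμ')))
      (Ideal.mem_sup_right (Ideal.mul_mem_right _ _ (Ideal.mem_span_singleton_self _)))

/-- Every `g ∉ mR` is a unit times a power of `φ` modulo `mR`. -/
theorem exists_unit_mul_pow (hm : maximalIdeal R = (maximalIdeal A).map (algebraMap A R) ⊔
      Ideal.span {algebraMap A[X] R φ})
    [IsNoetherianRing (R ⧸ (maximalIdeal A).map (algebraMap A R))] (g : R)
    (hg : g ∉ (maximalIdeal A).map (algebraMap A R)) :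
    ∃ (e : ℕ) (w : R), IsUnit w ∧
      g - w * algebraMap A[X] R φ ^ e ∈ (maximalIdeal A).map (algebraMap A R) := by
  classical
  set I := (maximalIdeal A).map (algebraMap A R) with hI
  let ψ := algebraMap A[X] R φ
  have hIne : I ≠ ⊤ := by
    intro h
    exact hg (h ▸ Submodule.mem_top)
  have hle : I ≤ maximalIdeal R := le_maximalIdeal hIne
  have : Nontrivial (R ⧸ I) := Ideal.Quotient.nontrivial_iff.2 hIne
  have : IsLocalRing (R ⧸ I) := IsLocalRing.of_surjective' (Ideal.Quotient.mk I)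
    Ideal.Quotient.mk_surjective
  have hφm : ψ ∈ maximalIdeal R := by
    rw [hm]; exact Ideal.mem_sup_right (Ideal.mem_span_singleton_self _)
  let J : Ideal (R ⧸ I) := Ideal.span {Ideal.Quotient.mk I ψ}
  have hJ : J ≠ ⊤ := by
    intro h
    rw [Ideal.span_singleton_eq_top] at h
    have h2 : ψ ∉ maximalIdeal R := by
      obtain ⟨t, ht⟩ := Ideal.Quotient.mk_surjective (h.unit⁻¹ : (R ⧸ I)ˣ).1
      intro h3
      have h4 : Ideal.Quotient.mk I (ψ * t) = Ideal.Quotient.mk I 1 := by
        rw [map_mul, ht, map_one]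
        exact h.mul_val_inv
      rw [Ideal.Quotient.eq] at h4
      have h5 : (1 : R) ∈ maximalIdeal R := by
        have : (1 : R) = ψ * t - (ψ * t - 1) := by ring
        rw [this]
        exact Ideal.sub_mem _ (Ideal.mul_mem_right _ _ h3) (hle h4)
      exact (maximalIdeal.isMaximal R).ne_top ((Ideal.eq_top_iff_one _).2 h5)
    exact h2 hφm
  have hinf : ⨅ i : ℕ, J ^ i = ⊥ := Ideal.iInf_pow_eq_bot_of_isLocalRing J hJ
  have hg0 : Ideal.Quotient.mk I g ≠ 0 := fun h => hg (Ideal.Quotient.eq_zero_iff_mem.1 h)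
  have hex : ∃ i : ℕ, Ideal.Quotient.mk I g ∉ J ^ i := by
    by_contra hcon
    push Not at hcon
    apply hg0
    have : Ideal.Quotient.mk I g ∈ ⨅ i : ℕ, J ^ i := (Submodule.mem_iInf _).2 hcon
    rwa [hinf] at this
  have h0 : Nat.find hex ≠ 0 := by
    intro h
    have := Nat.find_spec hex
    rw [h, pow_zero, Ideal.one_eq_top] at this
    exact this Submodule.mem_top
  obtain ⟨e, he⟩ := Nat.exists_eq_succ_of_ne_zero h0
  have he1 : Ideal.Quotient.mk I g ∈ J ^ e := by
    by_contra h
    have := Nat.find_min' hex h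
    omega
  have he2 : Ideal.Quotient.mk I g ∉ J ^ (e + 1) := by
    have := Nat.find_spec hex
    rwa [he] at this
  rw [Ideal.span_singleton_pow, Ideal.mem_span_singleton] at he1
  obtain ⟨w', hw'⟩ := he1
  obtain ⟨w, rfl⟩ := Ideal.Quotient.mk_surjective w'
  have hsub : g - w * ψ ^ e ∈ I := by
    rw [← Ideal.Quotient.eq, hw', map_mul, map_pow, mul_comm]
  refine ⟨e, w, ?_, hsub⟩
  by_contra hnu
  have hwm : w ∈ maximalIdeal R := (mem_maximalIdeal _).2 hnu
  rw [hm] at hwm
  obtain ⟨μ, hμ, t', ht', hw⟩ := Submodule.mem_sup.1 hwm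
  obtain ⟨t, rfl⟩ := Ideal.mem_span_singleton.1 ht'
  apply he2
  rw [Ideal.span_singleton_pow, Ideal.mem_span_singleton]
  refine ⟨Ideal.Quotient.mk I t, ?_⟩
  rw [hw', ← hw, map_add, Ideal.Quotient.eq_zero_iff_mem.2 hμ, zero_add, map_mul]
  ring

theorem algebraMap_eq_sum {N : ℕ} {P : A[X]} (hP : P.degree < N) :
    algebraMap A[X] R P = ∑ i : Fin N, P.coeff i • algebraMap A[X] R X ^ (i : ℕ) := by
  have h1 : algebraMap A[X] R P = aeval (algebraMap A[X] R X) P := by
    have : aeval (algebraMap A[X] R X) = IsScalarTower.toAlgHom A A[X] R := by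
      apply Polynomial.algHom_ext
      simp
    rw [this]
    rfl
  rw [h1, aeval_def, eval₂_eq_sum, ← Polynomial.sum_fin _ (by simp) hP]
  exact Finset.sum_congr rfl fun i _ => (Algebra.smul_def _ _).symm

/-- **Weierstrass preparation.** -/
theorem exists_weierstrass (hφ : φ.Monic)
    (hm : maximalIdeal R = (maximalIdeal A).map (algebraMap A R) ⊔
      Ideal.span {algebraMap A[X] R φ})
    (hres : ∀ y : R, ∃ P : A[X], y - algebraMap A[X] R P ∈ maximalIdeal R)
    [IsNoetherianRing (R ⧸ (maximalIdeal A).map (algebraMap A R))]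
    (hdeg : ∀ (j : ℕ) (W : A[X]), W.Monic → algebraMap A[X] R W ∈
      (maximalIdeal A).map (algebraMap A R) ⊔ Ideal.span {algebraMap A[X] R φ ^ j} →
      j * φ.natDegree ≤ W.natDegree) (hφ0 : 0 < φ.natDegree)
    (g : R) (hg : g ∉ (maximalIdeal A).map (algebraMap A R))
    (hfin : Module.Finite A (R ⧸ (maximalIdeal A).map (algebraMap A R) ⊔ Ideal.span {g}) →
      Module.Finite A (R ⧸ Ideal.span {g})) :
    (∃ (W : A[X]) (v : R), W.Monic ∧ IsUnit v ∧ algebraMap A[X] R W = v * g) ∧
      ∀ y : R, ∃ P : A[X], g ∣ y - algebraMap A[X] R P := by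
  classical
  obtain ⟨e, w, hw, hsub⟩ := exists_unit_mul_pow hm g hg
  set I := (maximalIdeal A).map (algebraMap A R) with hI
  set N := e * φ.natDegree with hN
  set x := algebraMap A[X] R X with hx
  have hφe : algebraMap A[X] R φ ^ e ∈ I ⊔ Ideal.span {g} := by
    obtain ⟨w, rfl⟩ := hw
    have : algebraMap A[X] R φ ^ e = ↑w⁻¹ * g - ↑w⁻¹ * (g - ↑w * algebraMap A[X] R φ ^ e) := by
      rw [mul_sub, ← mul_assoc, Units.inv_mul]
      ring
    rw [this]
    exact Ideal.sub_mem _ (Ideal.mem_sup_right (Ideal.mul_mem_left _ _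
      (Ideal.mem_span_singleton_self g))) (Ideal.mem_sup_left (Ideal.mul_mem_left _ _ hsub))
  have key : ∀ y : R, ∃ P : A[X], P.degree < N ∧
      y - algebraMap A[X] R P ∈ I ⊔ Ideal.span {g} := by
    intro y
    obtain ⟨P, hP⟩ := exists_poly hm hres e y
    have hmon : (φ ^ e).Monic := hφ.pow e
    refine ⟨P %ₘ φ ^ e, ?_, ?_⟩
    · have h1 := degree_modByMonic_lt P hmon
      rwa [degree_eq_natDegree hmon.ne_zero, hφ.natDegree_pow, ← hN] at h1
    · have h2 : y - algebraMap A[X] R (P %ₘ φ ^ e) =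
          (y - algebraMap A[X] R P) + algebraMap A[X] R φ ^ e * algebraMap A[X] R (P /ₘ φ ^ e) := by
        have h3 := congrArg (algebraMap A[X] R) (modByMonic_add_div P (φ ^ e))
        rw [map_add, map_mul, map_pow] at h3
        linear_combination (-1 : R) * h3
      rw [h2]
      refine Ideal.add_mem _ ?_ (Ideal.mul_mem_right _ _ hφe)
      refine (sup_le le_sup_left ?_ : I ⊔ Ideal.span {algebraMap A[X] R φ ^ e} ≤ _) hP
      rw [Ideal.span_singleton_le_iff_mem]
      exact hφe
  let L : (Fin N → A) →ₗ[A] R := Fintype.linearCombination A (fun i : Fin N => x ^ (i : ℕ))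
  have hL : ∀ P : A[X], P.degree < N → ∃ c, L c = algebraMap A[X] R P := by
    intro P hP
    refine ⟨fun i => P.coeff i, ?_⟩
    rw [algebraMap_eq_sum hP]
    simp only [L, Fintype.linearCombination_apply]
    rfl
  have hfin1 : Module.Finite A (R ⧸ I ⊔ Ideal.span {g}) := by
    refine Module.Finite.of_surjective
      ((Ideal.Quotient.mkₐ A (I ⊔ Ideal.span {g})).toLinearMap.comp L) ?_
    intro y
    obtain ⟨y, rfl⟩ := Ideal.Quotient.mk_surjective y
    obtain ⟨P, hP, hyP⟩ := key y
    obtain ⟨c, hc⟩ := hL P hP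
    refine ⟨c, ?_⟩
    change Ideal.Quotient.mk _ (L c) = _
    rw [hc]
    exact (Ideal.Quotient.eq.2 hyP).symm
  have hD : Module.Finite A (R ⧸ Ideal.span {g}) := hfin hfin1
  let D := R ⧸ Ideal.span {g}
  let M : (Fin N → A) →ₗ[A] D := (Ideal.Quotient.mkₐ A (Ideal.span {g})).toLinearMap.comp L
  have htop : (⊤ : Submodule A D) ≤ LinearMap.range M := by
    refine Submodule.le_of_le_smul_of_le_jacobson_bot (I := maximalIdeal A) hD.fg_top
      (IsLocalRing.maximalIdeal_le_jacobson _) ?_
    intro y _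
    obtain ⟨y, rfl⟩ := Ideal.Quotient.mk_surjective y
    obtain ⟨P, hP, hyP⟩ := key y
    obtain ⟨c, hc⟩ := hL P hP
    obtain ⟨μ, hμ, z', hz', hyP⟩ := Submodule.mem_sup.1 hyP
    have h1 : Ideal.Quotient.mk (Ideal.span {g}) y = M c + Ideal.Quotient.mk (Ideal.span {g}) μ := by
      change _ = Ideal.Quotient.mk (Ideal.span {g}) (L c) + _
      rw [hc, ← map_add, Ideal.Quotient.eq]
      have : y - (algebraMap A[X] R P + μ) = z' := by linear_combination (-1 : R) * hyP
      rw [this]
      exact hz'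
    rw [h1]
    refine Submodule.add_mem_sup (LinearMap.mem_range_self M c) ?_
    rw [Ideal.smul_top_eq_map]
    change Ideal.Quotient.mk (Ideal.span {g}) μ ∈ (maximalIdeal A).map (algebraMap A D)
    have h2 : (maximalIdeal A).map (algebraMap A D) = I.map (Ideal.Quotient.mk (Ideal.span {g})) := by
      rw [hI, Ideal.map_map]
      rfl
    rw [h2]
    exact Ideal.mem_map_of_mem _ hμ
  have hsurj : ∀ y : R, ∃ P : A[X], P.degree < N ∧ g ∣ y - algebraMap A[X] R P := by
    intro y
    obtain ⟨c, hc⟩ := htop (Submodule.mem_top (x := Ideal.Quotient.mk (Ideal.span {g}) y))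
    refine ⟨∑ i : Fin N, C (c i) * X ^ (i : ℕ), ?_, ?_⟩
    · rw [← mem_degreeLT]
      refine Submodule.sum_mem _ fun i _ => ?_
      rw [mem_degreeLT]
      exact lt_of_le_of_lt (degree_C_mul_X_pow_le _ _) (by exact_mod_cast i.2)
    · rw [← Ideal.mem_span_singleton, ← Ideal.Quotient.eq, ← hc]
      change Ideal.Quotient.mk (Ideal.span {g}) (L c) = _
      congr 1
      simp only [L, Fintype.linearCombination_apply, map_sum, map_mul, map_pow,
        Algebra.smul_def, IsScalarTower.algebraMap_apply A A[X] R]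
      rfl
  refine ⟨?_, fun y => ?_⟩
  · obtain ⟨P, hP, v, hv⟩ := hsurj (x ^ N)
    have hWm : (X ^ N - P).Monic := (monic_X_pow N).sub_of_left (by rwa [degree_X_pow])
    have hWd : (X ^ N - P).natDegree = N := by
      apply natDegree_eq_of_degree_eq_some
      rw [degree_sub_eq_left_of_degree_lt (by rwa [degree_X_pow]), degree_X_pow]
    have hW : algebraMap A[X] R (X ^ N - P) = v * g := by
      rw [map_sub, map_pow, mul_comm]
      exact hv
    refine ⟨X ^ N - P, v, hWm, ?_, hW⟩
    by_contra hnu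
    have hvm : v ∈ maximalIdeal R := (mem_maximalIdeal _).2 hnu
    rw [hm] at hvm
    obtain ⟨μ, hμ, t', ht', hvt⟩ := Submodule.mem_sup.1 hvm
    obtain ⟨t, rfl⟩ := Ideal.mem_span_singleton.1 ht'
    have h3 := hdeg (e + 1) (X ^ N - P) hWm (by
      rw [hW]
      have : v * g = (μ * g + algebraMap A[X] R φ * t * (g - w * algebraMap A[X] R φ ^ e)) +
          algebraMap A[X] R φ ^ (e + 1) * (t * w) := by
        rw [← hvt]
        ring
      rw [this]
      exact Ideal.add_mem _ (Ideal.mem_sup_left (Ideal.add_mem _ (Ideal.mul_mem_right _ _ hμ)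
        (Ideal.mul_mem_left _ _ hsub)))
        (Ideal.mem_sup_right (Ideal.mul_mem_right _ _ (Ideal.mem_span_singleton_self _))))
    rw [hWd, hN] at h3
    have := Nat.le_of_mul_le_mul_right h3 hφ0
    omega
  · obtain ⟨P, _, hP⟩ := hsurj y
    exact ⟨P, hP⟩

end Abstract

end Groth.Agent.Ega4dA.PicHensel
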